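import Mathlib

/-!
# Five colours break all automorphisms of a finite abelian group
-/

namespace Cfsg.Agent.H10.BaseThree

open Subgroup

theorem exists_irredundant (X : Type*) [CommGroup X] [Finite X] :
    ∃ (r : ℕ) (e : Fin r → X), Function.Injective e ∧ Subgroup.closure (Set.range e) = ⊤ ∧
      ∀ a, e a ∉ Subgroup.closure (e '' {b | b ≠ a}) := by
  classical
  have := Fintype.ofFinite X
  have hex : ∃ n, ∃ S : Finset X, S.card = n ∧ Subgroup.closure (S : Set X) = ⊤ :=
    ⟨_, Finset.univ, rfl, by simp⟩
  obtain ⟨S, hS, hgen⟩ := Nat.find_spec hex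
  refine ⟨S.card, fun i => (S.equivFin.symm i : X), ?_, ?_, ?_⟩
  · exact Subtype.val_injective.comp S.equivFin.symm.injective
  · convert hgen using 2
    ext x
    constructor
    · rintro ⟨i, rfl⟩
      exact (S.equivFin.symm i).2
    · intro hx
      exact ⟨S.equivFin ⟨x, hx⟩, by simp⟩
  · intro a ha
    have hmem : (S.equivFin.symm a : X) ∈ S := (S.equivFin.symm a).2
    have hsub : (fun i => (S.equivFin.symm i : X)) '' {b | b ≠ a} ⊆
        ((S.erase (S.equivFin.symm a : X) : Finset X) : Set X) := by
      rintro _ ⟨b, hb, rfl⟩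
      simp only [Finset.coe_erase, Set.mem_sdiff, Finset.mem_coe, Set.mem_singleton_iff]
      exact ⟨(S.equivFin.symm b).2, fun h => hb (S.equivFin.symm.injective (Subtype.ext h))⟩
    have ha' := Subgroup.closure_mono hsub ha
    have htop : Subgroup.closure ((S.erase (S.equivFin.symm a : X) : Finset X) : Set X) = ⊤ := by
      rw [eq_top_iff, ← hgen, Subgroup.closure_le]
      intro x hx
      by_cases hxa : x = (S.equivFin.symm a : X)
      · rw [hxa]; exact ha'
      · exact Subgroup.subset_closure (Finset.mem_coe.2 (Finset.mem_erase.2 ⟨hxa, hx⟩))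
    have hmin := Nat.find_min' hex ⟨_, rfl, htop⟩
    rw [← hS, Finset.card_erase_of_mem hmem] at hmin
    have := Finset.card_pos.2 ⟨_, hmem⟩
    omega

variable {X : Type*} [CommGroup X] {r : ℕ} {e : Fin r → X}

theorem irr_ne_one (he : ∀ a, e a ∉ Subgroup.closure (e '' {b | b ≠ a})) (a : Fin r) : e a ≠ 1 :=
  fun h => he a (h ▸ one_mem _)

theorem mem_others {a b : Fin r} (h : b ≠ a) :
    e b ∈ Subgroup.closure (e '' {c | c ≠ a}) :=
  Subgroup.subset_closure ⟨b, h, rfl⟩

theorem pair_ne_one (he : ∀ a, e a ∉ Subgroup.closure (e '' {b | b ≠ a})) {i j : Fin r} (hij : i ≠ j) :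
    e i * e j ≠ 1 := by
  intro h
  refine he i ?_
  rw [eq_inv_of_mul_eq_one_left h]
  exact inv_mem (mem_others hij.symm)

theorem pair_ne_single (he : ∀ a, e a ∉ Subgroup.closure (e '' {b | b ≠ a})) {i j k : Fin r}
    (hij : i ≠ j) : e i * e j ≠ e k := by
  intro h
  by_cases hki : k = i
  · subst hki
    exact irr_ne_one he j (mul_eq_left.1 h)
  by_cases hkj : k = j
  · subst hkj
    exact irr_ne_one he i (mul_eq_right.1 h)
  refine he k ?_
  rw [← h]
  exact mul_mem (mem_others (Ne.symm hki)) (mem_others (Ne.symm hkj))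

theorem pair_eq (he : ∀ a, e a ∉ Subgroup.closure (e '' {b | b ≠ a})) {i j a b : Fin r}
    (hab : a ≠ b) (h : e i * e j = e a * e b) : a = i ∨ a = j := by
  by_contra hc
  push Not at hc
  refine he a ?_
  rw [eq_mul_inv_of_mul_eq h.symm]
  exact mul_mem (mul_mem (mem_others hc.1.symm) (mem_others hc.2.symm))
    (inv_mem (mem_others hab.symm))

/-- A colouring of a finite abelian group with five colours, the colour `0` being used only at `1`,
whose only colour preserving automorphism is the identity. -/
theorem exists_colouring (X : Type*) [CommGroup X] [Finite X] :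
    ∃ c : X → Fin 5, c 1 = 0 ∧ (∀ x, c x = 0 → x = 1) ∧
      ∀ φ : X →* X, Function.Injective φ → (∀ x, c (φ x) = c x) → ∀ x, φ x = x := by
  classical
  obtain ⟨r, e, hinj, hgen, he⟩ := exists_irredundant X
  let c : X → Fin 5 := fun x =>
    if x = 1 then 0
    else if ∃ i : Fin r, e i = x ∧ (i : ℕ) = 0 then 2
    else if ∃ i : Fin r, e i = x then 1
    else if ∃ i j : Fin r, e i * e j = x ∧ (j : ℕ) = i + 1 then 3
    else 4
  have hc0 : ∀ x, c x = 0 → x = 1 := by
    intro x hx
    by_contra hne
    simp only [c, if_neg hne] at hx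
    split_ifs at hx <;> exact absurd hx (by decide)
  have hc2 : ∀ x, c x = 2 → ∃ i : Fin r, e i = x ∧ (i : ℕ) = 0 := by
    intro x hx
    simp only [c] at hx
    split_ifs at hx with h1 h2 h3 h4 <;> first | exact h2 | exact absurd hx (by decide)
  have hc1 : ∀ x, c x = 1 → ∃ i : Fin r, e i = x := by
    intro x hx
    simp only [c] at hx
    split_ifs at hx with h1 h2 h3 h4 <;> first | exact h3 | exact absurd hx (by decide)
  have hc3 : ∀ x, c x = 3 → ∃ i j : Fin r, e i * e j = x ∧ (j : ℕ) = i + 1 := by
    intro x hx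
    simp only [c] at hx
    split_ifs at hx with h1 h2 h3 h4 <;> first | exact h4 | exact absurd hx (by decide)
  have hval0 : ∀ i : Fin r, (i : ℕ) = 0 → c (e i) = 2 := fun i hi => by
    simp only [c, if_neg (irr_ne_one he i)]
    rw [if_pos ⟨i, rfl, hi⟩]
  have hval1 : ∀ i : Fin r, (i : ℕ) ≠ 0 → c (e i) = 1 := fun i hi => by
    simp only [c, if_neg (irr_ne_one he i)]
    rw [if_neg (by rintro ⟨j, hj, hj0⟩; exact hi (hinj hj ▸ hj0)), if_pos ⟨i, rfl⟩]
  have hval3 : ∀ i j : Fin r, (j : ℕ) = i + 1 → c (e i * e j) = 3 := fun i j hij => by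
    have hne : i ≠ j := fun h => by subst h; omega
    simp only [c, if_neg (pair_ne_one he hne)]
    rw [if_neg (by rintro ⟨k, hk, -⟩; exact pair_ne_single he hne hk.symm),
      if_neg (by rintro ⟨k, hk⟩; exact pair_ne_single he hne hk.symm), if_pos ⟨i, j, rfl, hij⟩]
  refine ⟨c, by simp [c], hc0, ?_⟩
  intro φ hφ hpres
  have hfix : ∀ n : ℕ, ∀ i : Fin r, (i : ℕ) = n → φ (e i) = e i := by
    intro n
    induction n using Nat.strong_induction_on with
    | _ n ih =>
      intro i hi
      rcases Nat.eq_zero_or_pos n with hn | hn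
      · obtain ⟨j, hj, hj0⟩ := hc2 (φ (e i)) (by rw [hpres]; exact hval0 i (hi.trans hn))
        rw [← hj, show j = i from Fin.ext (by omega)]
      · have hlt : n - 1 < r := by omega
        let p : Fin r := ⟨n - 1, hlt⟩
        have hp : φ (e p) = e p := ih (n - 1) (by omega) p rfl
        obtain ⟨b, hb⟩ := hc1 (φ (e i)) (by rw [hpres]; exact hval1 i (by omega))
        obtain ⟨a, a', haa, haa'⟩ := hc3 (e p * φ (e i))
          (by rw [← hp, ← map_mul, hpres]; exact hval3 p i (by simp only [p]; omega))
        rw [← hb] at haa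
        have hbp : b ≠ p := fun h => by
          subst h
          have := hinj (hφ (hb.symm.trans hp.symm))
          rw [this] at hi
          simp only [p] at hi
          omega
        have hne : a ≠ a' := fun h => by subst h; omega
        rcases pair_eq he hne haa.symm with h | h
        · subst h
          have h' : a' = b := hinj (mul_left_cancel haa)
          subst h'
          rw [← hb]
          congr 1
          apply Fin.ext
          simp only [p] at haa'
          omega
        · subst h
          rw [mul_comm (e p)] at haa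
          have h' : a' = p := hinj (mul_left_cancel haa)
          subst h'
          simp only [p] at haa'
          have hq : φ (e a) = e a := ih a (by omega) a rfl
          have := hinj (hφ (hb.symm.trans hq.symm))
          rw [this] at hi
          omega
  intro x
  have hle : Subgroup.closure (Set.range e) ≤ φ.eqLocus (MonoidHom.id X) := by
    rw [Subgroup.closure_le]
    rintro _ ⟨i, rfl⟩
    exact hfix i i rfl
  rw [hgen] at hle
  exact hle (Subgroup.mem_top x)

end Cfsg.Agent.H10.BaseThree
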