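import Mathlib
import Cfsg.Agent.H77.MaximalIndex

/-!
# From one regular triple to five inequivalent regular triples
-/

namespace Cfsg.Agent.H10.BaseThree

open scoped commutatorElement

variable {G W : Type*} [Group G] [AddCommGroup W] [DistribMulAction G W]

/-- A triple of vectors whose common stabiliser acts trivially. -/
def Regular (G : Type*) {W : Type*} [Group G] [AddCommGroup W] [DistribMulAction G W]
    (t : W × W × W) : Prop :=
  ∀ g : G, g • t.1 = t.1 → g • t.2.1 = t.2.1 → g • t.2.2 = t.2.2 → ∀ w : W, g • w = w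

/-- Five regular triples in pairwise different orbits. -/
def FiveRegular (G W : Type*) [Group G] [AddCommGroup W] [DistribMulAction G W] : Prop :=
  ∃ s : Fin 5 → W × W × W, (∀ i, Regular G (s i)) ∧ ∀ i j, ∀ g : G, g • s i = s j → i = j

theorem smul_nsmul' (g : G) (n : ℕ) (w : W) : g • (n • w) = n • (g • w) :=
  map_nsmul (DistribSMul.toAddMonoidHom W g) n w

section Small

theorem five_of_list (s : Fin 5 → W × W × W) (hinj : Function.Injective s)
    (h : ∀ i j, ∀ g : G, g • s i = s j → ∀ w : W, g • w = w) : FiveRegular G W := by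
  refine ⟨s, fun i g h1 h2 h3 => h i i g (Prod.ext h1 (Prod.ext h2 h3)), fun i j g he => hinj ?_⟩
  have := h i j g he
  rw [← he]
  exact (Prod.ext (this _) (Prod.ext (this _) (this _))).symm

theorem five_of_one_generator (a : W) (ha : a ≠ 0)
    (hreg : ∀ g : G, g • a = a → ∀ w : W, g • w = w) : FiveRegular G W := by
  have h0 : ∀ g : G, g • a ≠ 0 := fun g h => ha ((smul_eq_zero_iff_eq g).1 h)
  refine five_of_list ![(0, a, 0), (a, 0, 0), (a, a, 0), (a, 0, a), (a, a, a)] ?_ ?_
  · intro i j h
    fin_cases i <;> fin_cases j <;> first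
      | rfl
      | (simp [ha, Ne.symm ha] at h; done)
  · intro i j g h
    refine hreg g ?_
    fin_cases i <;> fin_cases j <;> simp [Prod.smul_mk] at h <;> first
      | exact h
      | exact h.1
      | exact h.2.1
      | exact absurd h.1 (h0 g)
      | exact absurd h.1.symm ha

theorem five_of_two_generators (a b : W) (ha : a ≠ 0) (hb : b ≠ 0) (hab : a ≠ b) (hs : a + b ≠ 0)
    (hreg : ∀ g : G, g • a = a → g • b = b → ∀ w : W, g • w = w) : FiveRegular G W := by
  have h0 : ∀ g : G, g • b ≠ 0 := fun g h => hb ((smul_eq_zero_iff_eq g).1 h)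
  refine five_of_list ![(a, 0, b), (a, b, 0), (a, b, a), (a, b, b), (a, b, a + b)] ?_ ?_
  · intro i j h
    fin_cases i <;> fin_cases j <;> first
      | rfl
      | (simp [ha, Ne.symm ha, hb, Ne.symm hb, hab, Ne.symm hab, hs, Ne.symm hs] at h; done)
  · intro i j g h
    fin_cases i <;> fin_cases j <;> simp [Prod.smul_mk] at h <;> first
      | exact hreg g h.1 h.2
      | exact hreg g h.1 h.2.1
      | exact absurd h.2.1 (h0 g)
      | exact absurd h.2.1.symm hb

end Small

section Three

variable (p : ℕ)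

/-- A shear of `F_p³`. -/
def shearFun (i j : Fin 3) (v : Fin 3 → ZMod p) : Fin 3 → ZMod p :=
  fun k => v k + if k = i then v j else 0

def shear (i j : Fin 3) (hij : i ≠ j) : (Fin 3 → ZMod p) ≃ₗ[ZMod p] (Fin 3 → ZMod p) where
  toFun := shearFun p i j
  invFun v := fun k => v k - if k = i then v j else 0
  map_add' u v := by
    funext k; simp only [shearFun, Pi.add_apply]; split_ifs <;> abel
  map_smul' r v := by
    funext k; simp only [shearFun, Pi.smul_apply, smul_eq_mul, RingHom.id_apply]
    split_ifs <;> ring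
  left_inv v := by
    funext k; simp [shearFun, hij.symm]
  right_inv v := by
    funext k; simp [shearFun, hij.symm]

theorem shear_apply (i j : Fin 3) (hij : i ≠ j) (v : Fin 3 → ZMod p) :
    shear p i j hij v = shearFun p i j v := rfl

theorem shear_inv_apply (i j : Fin 3) (hij : i ≠ j) (v : Fin 3 → ZMod p) :
    (shear p i j hij)⁻¹ v = fun k => v k - if k = i then v j else 0 := rfl

theorem shear_commutator (i j k : Fin 3) (hik : i ≠ k) (hkj : k ≠ j) (hij : i ≠ j) :
    ⁅shear p i k hik, shear p k j hkj⁆ = shear p i j hij := by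
  refine LinearEquiv.ext fun v => ?_
  rw [commutatorElement_def]
  simp only [LinearEquiv.mul_apply, shear_apply, shear_inv_apply]
  funext l
  simp only [shearFun]
  fin_cases i <;> fin_cases j <;> fin_cases k <;> fin_cases l <;>
    simp_all <;> abel

theorem not_isSolvable_GL3 [Fact p.Prime] :
    ¬ Group.IsSolvable ((Fin 3 → ZMod p) ≃ₗ[ZMod p] (Fin 3 → ZMod p)) := by
  intro h
  obtain ⟨n, hn⟩ := (Group.isSolvable_def _).1 h
  have key : ∀ n i j, ∀ hij : i ≠ j, shear p i j hij ∈
      derivedSeries ((Fin 3 → ZMod p) ≃ₗ[ZMod p] (Fin 3 → ZMod p)) n := by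
    intro n
    induction n with
    | zero => intro i j hij; simp
    | succ n ih =>
      intro i j hij
      obtain ⟨k, hki, hkj⟩ : ∃ k, k ≠ i ∧ k ≠ j := by revert i j; decide
      rw [derivedSeries_succ, ← shear_commutator p i j k (Ne.symm hki) hkj hij]
      exact Subgroup.commutator_mem_commutator (ih i k _) (ih k j _)
  have h1 := key n 0 1 (by decide)
  rw [hn, Subgroup.mem_bot] at h1
  have h2 := congrFun (LinearEquiv.congr_fun h1 (Pi.single 1 1)) 0
  simp [shear_apply, shearFun] at h2

theorem five_of_three [Fact p.Prime] [Finite G] [Group.IsSolvable G] [Module (ZMod p) W]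
    (ψ : (Fin 3 → ZMod p) →ₗ[ZMod p] W) (hψ : Function.Injective ψ) (t : W × W × W)
    (ht : Regular G t) (h1 : t.1 ∈ LinearMap.range ψ) (h2 : t.2.1 ∈ LinearMap.range ψ)
    (h3 : t.2.2 ∈ LinearMap.range ψ) : FiveRegular G W := by
  classical
  let Q : Subgroup (G × ((Fin 3 → ZMod p) ≃ₗ[ZMod p] (Fin 3 → ZMod p))) :=
    { carrier := {x | ∀ v, x.1 • ψ v = ψ (x.2 v)}
      mul_mem' := fun {x y} hx hy v => by
        rw [Prod.fst_mul, mul_smul, hy, hx]; rfl
      one_mem' := fun v => by simp
      inv_mem' := fun {x} hx v => by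
        rw [Prod.fst_inv, inv_smul_eq_iff, hx, ← LinearEquiv.mul_apply, Prod.snd_inv,
          mul_inv_cancel]
        rfl }
  haveI : Group.IsSolvable Q := by
    refine Group.isSolvable_of_isSolvable_injective (f := (MonoidHom.fst _ _).comp Q.subtype) ?_
    rintro ⟨⟨g, u⟩, hx⟩ ⟨⟨g', u'⟩, hy⟩ he
    simp only [MonoidHom.comp_apply, Subgroup.coe_subtype, MonoidHom.coe_fst] at he
    subst he
    simp only [Subtype.mk.injEq, Prod.mk.injEq, true_and]
    exact LinearEquiv.ext fun v => hψ ((hx v).symm.trans (hy v))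
  let P := ((MonoidHom.snd G _).comp Q.subtype).range
  haveI hP : Group.IsSolvable P :=
    Group.isSolvable_of_surjective ((MonoidHom.snd G _).comp Q.subtype).rangeRestrict_surjective
  haveI : NeZero p := ⟨(Fact.out : p.Prime).ne_zero⟩
  haveI : Finite ((Fin 3 → ZMod p) ≃ₗ[ZMod p] (Fin 3 → ZMod p)) :=
    Finite.of_injective (fun u => (u : (Fin 3 → ZMod p) → (Fin 3 → ZMod p)))
      DFunLike.coe_injective
  letI := Fintype.ofFinite (((Fin 3 → ZMod p) ≃ₗ[ZMod p] (Fin 3 → ZMod p)) ⧸ P)
  have hidx : 5 ≤ P.index := by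
    by_contra hlt
    push Not at hlt
    haveI : Group.IsSolvable (Equiv.Perm (Fin 4)) :=
      Cfsg.Agent.H77.isSolvable_perm_four (by simp)
    obtain ⟨emb⟩ := Function.Embedding.nonempty_of_card_le
      (α := ((Fin 3 → ZMod p) ≃ₗ[ZMod p] (Fin 3 → ZMod p)) ⧸ P) (β := Fin 4)
      (by rw [← Nat.card_eq_fintype_card, ← Subgroup.index_eq_card, Fintype.card_fin]; omega)
    haveI : Group.IsSolvable P.normalCore :=
      Group.isSolvable_of_isSolvable_injective
        (Subgroup.inclusion_injective P.normalCore_le)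
    refine not_isSolvable_GL3 p (Group.isSolvable_of_ker_le_range P.normalCore.subtype
      ((Equiv.Perm.viaEmbeddingHom emb).comp (MulAction.toPermHom _ _)) ?_)
    rw [Subgroup.range_subtype, P.normalCore_eq_ker]
    intro x hx
    rw [MonoidHom.mem_ker] at hx ⊢
    exact Equiv.Perm.viaEmbeddingHom_injective emb (by rw [map_one]; exact hx)
  obtain ⟨q, hq⟩ : ∃ q : Fin 5 → ((Fin 3 → ZMod p) ≃ₗ[ZMod p] (Fin 3 → ZMod p)) ⧸ P,
      Function.Injective q := by
    obtain ⟨emb⟩ := Function.Embedding.nonempty_of_card_le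
      (α := Fin 5) (β := ((Fin 3 → ZMod p) ≃ₗ[ZMod p] (Fin 3 → ZMod p)) ⧸ P)
      (by rw [← Nat.card_eq_fintype_card (α := _ ⧸ P), ← Subgroup.index_eq_card,
        Fintype.card_fin]; omega)
    exact ⟨emb, emb.injective⟩
  let B := Pi.basisFun (ZMod p) (Fin 3)
  let col : ((Fin 3 → ZMod p) ≃ₗ[ZMod p] (Fin 3 → ZMod p)) → W × W × W := fun u =>
    (ψ (u (B 0)), ψ (u (B 1)), ψ (u (B 2)))
  have hall : ∀ (g : G) (u u' : (Fin 3 → ZMod p) ≃ₗ[ZMod p] (Fin 3 → ZMod p)),
      g • col u = col u' → ∀ v, g • ψ (u v) = ψ (u' v) := by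
    intro g u u' he v
    simp only [col, Prod.smul_mk, Prod.mk.injEq] at he
    have hv := B.sum_repr v
    rw [Fin.sum_univ_three] at hv
    rw [← hv]
    simp only [map_add, map_smul, smul_add]
    have hz : ∀ (r : ZMod p) (w : W), g • (r • w) = r • (g • w) := fun r w =>
      map_smul ((DistribSMul.toAddMonoidHom W g).toZModLinearMap p) r w
    rw [hz, hz, hz, he.1, he.2.1, he.2.2]
  refine ⟨fun i => col (q i).out⁻¹, ?_, ?_⟩
  · intro i g e1 e2 e3
    have hfix := hall g _ _ (Prod.ext e1 (Prod.ext e2 e3) : g • col (q i).out⁻¹ = col (q i).out⁻¹)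
    have hrange : ∀ w ∈ LinearMap.range ψ, g • w = w := by
      rintro _ ⟨v, rfl⟩
      have := hfix ((q i).out v)
      rwa [← LinearEquiv.mul_apply, inv_mul_cancel] at this
    exact ht g (hrange _ h1) (hrange _ h2) (hrange _ h3)
  · intro i j g he
    apply hq
    rw [← QuotientGroup.out_eq' (q i), ← QuotientGroup.out_eq' (q j), QuotientGroup.eq]
    have hmem : (q j).out⁻¹ * (q i).out ∈ P := by
      refine ⟨⟨(g, (q j).out⁻¹ * (q i).out), fun v => ?_⟩, rfl⟩
      have := hall g _ _ he ((q i).out v)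
      rw [← LinearEquiv.mul_apply, inv_mul_cancel] at this
      exact this
    simpa using inv_mem hmem

end Three

theorem five_of_regular_module [Finite G] [Group.IsSolvable G] [Nontrivial W] (p : ℕ)
    [Fact p.Prime] [Module (ZMod p) W] (t : W × W × W) (ht : Regular G t) : FiveRegular G W := by
  classical
  have hz : ∀ (g : G) (r : ZMod p) (w : W), g • (r • w) = r • (g • w) := fun g r w =>
    ZMod.map_smul (DistribSMul.toAddMonoidHom W g) r w
  -- greedy choice of a basis adapted to the triple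
  have step : ∀ (S : Submodule (ZMod p) W) (x : W), S ≠ ⊤ →
      ∃ a, a ∉ S ∧ x ∈ S ⊔ Submodule.span (ZMod p) {a} := by
    intro S x hS
    by_cases hx : x ∈ S
    · obtain ⟨a, -, ha⟩ := SetLike.exists_of_lt (lt_top_iff_ne_top.2 hS)
      exact ⟨a, ha, Submodule.mem_sup_left hx⟩
    · exact ⟨x, hx, Submodule.mem_sup_right (Submodule.mem_span_singleton_self x)⟩
  obtain ⟨a, ha, h1⟩ := step ⊥ t.1 bot_ne_top
  have ha0 : a ≠ 0 := fun h => ha (by simp [h])
  rw [bot_sup_eq] at h1
  let A := Submodule.span (ZMod p) ({a} : Set W)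
  have fixA : ∀ g : G, g • a = a → ∀ w ∈ A, g • w = w := by
    intro g hg w hw
    obtain ⟨r, rfl⟩ := Submodule.mem_span_singleton.1 hw
    rw [hz, hg]
  by_cases hA : A = ⊤
  · exact five_of_one_generator a ha0 fun g hg w => fixA g hg w (hA ▸ Submodule.mem_top)
  obtain ⟨b, hb, h2⟩ := step A t.2.1 hA
  let B := A ⊔ Submodule.span (ZMod p) ({b} : Set W)
  have fixB : ∀ g : G, g • a = a → g • b = b → ∀ w ∈ B, g • w = w := by
    intro g hg hg' w hw
    obtain ⟨y, hy, z, hzz, rfl⟩ := Submodule.mem_sup.1 hw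
    obtain ⟨r, rfl⟩ := Submodule.mem_span_singleton.1 hzz
    rw [smul_add, fixA g hg y hy, hz, hg']
  have hb0 : b ≠ 0 := fun h => hb (h ▸ A.zero_mem)
  have hba : a ∈ A := Submodule.mem_span_singleton_self a
  by_cases hB : B = ⊤
  · refine five_of_two_generators a b ha0 hb0 (fun h => hb (h ▸ hba))
      (fun h => hb ?_) fun g hg hg' w => fixB g hg hg' w (hB ▸ Submodule.mem_top)
    rw [eq_neg_of_add_eq_zero_right h]
    exact A.neg_mem hba
  obtain ⟨c, hc, h3⟩ := step B t.2.2 hB
  let ψ : (Fin 3 → ZMod p) →ₗ[ZMod p] W :=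
    { toFun := fun v => v 0 • a + v 1 • b + v 2 • c
      map_add' := fun u v => by simp only [Pi.add_apply, add_smul]; abel
      map_smul' := fun r v => by
        simp only [Pi.smul_apply, smul_eq_mul, RingHom.id_apply, smul_add, smul_smul] }
  have hψ : Function.Injective ψ := by
    rw [← LinearMap.ker_eq_bot, LinearMap.ker_eq_bot']
    intro v hv
    have hv' : v 0 • a + v 1 • b + v 2 • c = 0 := hv
    have e2 : v 2 = 0 := by
      by_contra hne
      have : v 2 • c ∈ B := by
        rw [eq_neg_of_add_eq_zero_right hv']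
        exact B.neg_mem (B.add_mem (Submodule.mem_sup_left (A.smul_mem _ hba))
          (Submodule.mem_sup_right (Submodule.smul_mem _ _ (Submodule.mem_span_singleton_self b))))
      exact hc ((B.smul_mem_iff hne).1 this)
    rw [e2, zero_smul, add_zero] at hv'
    have e1 : v 1 = 0 := by
      by_contra hne
      have : v 1 • b ∈ A := by
        rw [eq_neg_of_add_eq_zero_right hv']
        exact A.neg_mem (A.smul_mem _ hba)
      exact hb ((A.smul_mem_iff hne).1 this)
    rw [e1, zero_smul, add_zero] at hv'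
    have e0 : v 0 = 0 := by
      by_contra hne
      exact ha0 ((smul_eq_zero.1 hv').resolve_left hne)
    funext i
    fin_cases i <;> simp [e0, e1, e2]
  have hra : A ≤ LinearMap.range ψ := by
    rw [Submodule.span_le, Set.singleton_subset_iff]
    exact ⟨Pi.single 0 1, by simp [ψ]⟩
  have hrb : B ≤ LinearMap.range ψ := by
    refine sup_le hra ?_
    rw [Submodule.span_le, Set.singleton_subset_iff]
    exact ⟨Pi.single 1 1, by simp [ψ]⟩
  have hrc : B ⊔ Submodule.span (ZMod p) ({c} : Set W) ≤ LinearMap.range ψ := by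
    refine sup_le hrb ?_
    rw [Submodule.span_le, Set.singleton_subset_iff]
    exact ⟨Pi.single 2 1, by simp [ψ]⟩
  exact five_of_three p ψ hψ t ht (hra h1) (hrb h2) (hrc h3)

/-- One regular triple yields five regular triples in different orbits. -/
theorem five_of_regular [Finite G] [Group.IsSolvable G] [Nontrivial W] (p : ℕ) [Fact p.Prime]
    (hp : ∀ w : W, p • w = 0) (t : W × W × W) (ht : Regular G t) : FiveRegular G W :=
  @five_of_regular_module G W _ _ _ _ _ _ p _ (AddCommGroup.zmodModule hp) t ht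

end Cfsg.Agent.H10.BaseThree
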