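import Mathlib
import Cfsg.Agent.H10.BaseThree.Colour
import Cfsg.Agent.H10.BaseThree.Orbits

/-!
# Block idempotents of an irreducible action
-/

namespace Cfsg.Agent.H10.BaseThree

open scoped commutatorElement

variable {G V : Type*} [Group G] [AddCommGroup V] [DistribMulAction G V]

/-- No proper nonzero invariant additive subgroup. -/
def Irred (G V : Type*) [Group G] [AddCommGroup V] [DistribMulAction G V] : Prop :=
  Nontrivial V ∧ ∀ U : AddSubgroup V, (∀ g : G, ∀ v ∈ U, g • v ∈ U) → U = ⊥ ∨ U = ⊤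

/-- Conjugation of an endomorphism by a group element. -/
def cnj (g : G) (e : AddMonoid.End V) : AddMonoid.End V :=
  DistribMulAction.toAddMonoidEnd G V g * e * DistribMulAction.toAddMonoidEnd G V g⁻¹

@[simp] theorem cnj_apply (g : G) (e : AddMonoid.End V) (v : V) :
    cnj g e v = g • e (g⁻¹ • v) := rfl

theorem cnj_mul (g h : G) (e : AddMonoid.End V) : cnj (g * h) e = cnj g (cnj h e) := by
  ext v; simp [mul_smul]

theorem cnj_one (e : AddMonoid.End V) : cnj (1 : G) e = e := by
  ext v; simp

theorem cnj_map_mul (g : G) (e f : AddMonoid.End V) : cnj g (e * f) = cnj g e * cnj g f := by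
  ext v; simp

theorem cnj_map_zero (g : G) : cnj g (0 : AddMonoid.End V) = 0 := by
  ext v; simp

theorem cnj_injective (g : G) : Function.Injective (cnj (V := V) g) := fun e f h => by
  have := congrArg (cnj g⁻¹) h
  rwa [← cnj_mul, ← cnj_mul, inv_mul_cancel, cnj_one, cnj_one] at this

/-- An idempotent whose translates are orthogonal to it. -/
structure IsBlock (G : Type*) {V : Type*} [Group G] [AddCommGroup V] [DistribMulAction G V]
    (e : AddMonoid.End V) : Prop where
  idem : e * e = e
  ne_zero : e ≠ 0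
  ne_one : e ≠ 1
  orth : ∀ g : G, cnj g e ≠ e → cnj g e * e = 0

variable (G) in
/-- The stabiliser of an endomorphism. -/
def blockStab (e : AddMonoid.End V) : Subgroup G where
  carrier := {g | cnj g e = e}
  one_mem' := cnj_one e
  mul_mem' := fun {a b} ha hb => by
    change cnj (a * b) e = e
    rw [cnj_mul, hb, ha]
  inv_mem' := fun {a} ha => by
    change cnj a⁻¹ e = e
    conv_lhs => rw [← (ha : cnj a e = e)]
    rw [← cnj_mul, inv_mul_cancel, cnj_one]

theorem mem_blockStab {e : AddMonoid.End V} {g : G} : g ∈ blockStab G e ↔ cnj g e = e := Iff.rfl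

/-- The translate attached to a coset. -/
noncomputable def trans (e : AddMonoid.End V) (q : G ⧸ blockStab G e) : AddMonoid.End V :=
  cnj q.out e

theorem trans_mk (e : AddMonoid.End V) (g : G) : trans e (g : G ⧸ blockStab G e) = cnj g e := by
  obtain ⟨⟨h, hh⟩, he⟩ := QuotientGroup.mk_out_eq_mul (blockStab G e) g
  rw [trans, he, cnj_mul, mem_blockStab.1 hh]

theorem cnj_trans (e : AddMonoid.End V) (g : G) (q : G ⧸ blockStab G e) :
    cnj g (trans e q) = trans e (g • q) := by
  induction q using QuotientGroup.induction_on with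
  | _ x => rw [trans_mk, MulAction.Quotient.smul_coe, trans_mk, ← cnj_mul, smul_eq_mul]

theorem trans_orth {e : AddMonoid.End V} (he : IsBlock G e) {q q' : G ⧸ blockStab G e}
    (h : q ≠ q') : trans e q * trans e q' = 0 := by
  induction q using QuotientGroup.induction_on with
  | _ x =>
    induction q' using QuotientGroup.induction_on with
    | _ y =>
      rw [trans_mk, trans_mk]
      have hne : cnj (y⁻¹ * x) e ≠ e := fun hc => h (QuotientGroup.eq.2 (by
        simpa [mul_assoc] using (blockStab G e).inv_mem (mem_blockStab.2 hc)))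
      calc cnj x e * cnj y e = cnj y (cnj (y⁻¹ * x) e * e) := by
            rw [cnj_map_mul, ← cnj_mul, mul_inv_cancel_left]
        _ = 0 := by rw [he.orth _ hne, cnj_map_zero]

theorem trans_idem {e : AddMonoid.End V} (he : IsBlock G e) (q : G ⧸ blockStab G e) :
    trans e q * trans e q = trans e q := by
  rw [trans, ← cnj_map_mul, he.idem]

theorem blockStab_ne_top {e : AddMonoid.End V} (hirr : Irred G V) (he : IsBlock G e) :
    blockStab G e ≠ ⊤ := by
  intro htop
  have hc : ∀ g : G, cnj g e = e := fun g => mem_blockStab.1 (htop ▸ Subgroup.mem_top g)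
  have hinv : ∀ g : G, ∀ v ∈ AddMonoidHom.range (e : V →+ V),
      g • v ∈ AddMonoidHom.range (e : V →+ V) := by
    rintro g _ ⟨w, rfl⟩
    refine ⟨g • w, ?_⟩
    have := DFunLike.congr_fun (hc g) (g • w)
    rw [cnj_apply, inv_smul_smul] at this
    exact this.symm
  rcases hirr.2 _ hinv with h | h
  · refine he.ne_zero (AddMonoidHom.ext fun v => ?_)
    have : e v ∈ AddMonoidHom.range (e : V →+ V) := ⟨v, rfl⟩
    rw [h, AddSubgroup.mem_bot] at this
    exact this
  · refine he.ne_one (AddMonoidHom.ext fun v => ?_)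
    obtain ⟨w, hw⟩ : v ∈ AddMonoidHom.range (e : V →+ V) := h ▸ AddSubgroup.mem_top v
    rw [← hw]
    exact DFunLike.congr_fun he.idem w

theorem sum_mul_sum {ι : Type*} [Fintype ι] [DecidableEq ι] (f : ι → AddMonoid.End V)
    (s t : Finset ι) (hidem : ∀ i, f i * f i = f i) (horth : ∀ i j, i ≠ j → f i * f j = 0) :
    (∑ i ∈ s, f i) * (∑ i ∈ t, f i) = ∑ i ∈ s ∩ t, f i := by
  rw [Finset.sum_mul_sum, ← Finset.sum_ite_mem]
  refine Finset.sum_congr rfl fun i _ => ?_
  by_cases hi : i ∈ t
  · rw [if_pos hi, Finset.sum_eq_single_of_mem i hi fun j _ hj => horth i j (Ne.symm hj), hidem]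
  · rw [if_neg hi]
    exact Finset.sum_eq_zero fun j hj => horth i j fun h => hi (h ▸ hj)

theorem sum_trans {e : AddMonoid.End V} [Fintype (G ⧸ blockStab G e)] (hirr : Irred G V)
    (he : IsBlock G e) (v : V) : ∑ q : G ⧸ blockStab G e, trans e q v = v := by
  classical
  let s : AddMonoid.End V := ∑ q : G ⧸ blockStab G e, trans e q
  have hsv : ∀ w, s w = ∑ q : G ⧸ blockStab G e, trans e q w := fun w =>
    AddMonoidHom.finsetSum_apply (fun q : G ⧸ blockStab G e => (trans e q : V →+ V)) _ w
  have hs : s * s = s := by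
    change (∑ q, trans e q) * (∑ q, trans e q) = _
    rw [sum_mul_sum _ _ _ (trans_idem he) (fun i j h => trans_orth he h), Finset.inter_self]
  have hinv : ∀ g : G, ∀ v ∈ AddMonoidHom.range (s : V →+ V),
      g • v ∈ AddMonoidHom.range (s : V →+ V) := by
    rintro g _ ⟨w, rfl⟩
    refine ⟨g • w, ?_⟩
    change s (g • w) = g • s w
    rw [hsv, hsv, Finset.smul_sum]
    refine (Fintype.sum_equiv (MulAction.toPerm g) _ _ fun q => ?_).symm
    change g • trans e q w = trans e (g • q) (g • w)
    rw [← cnj_trans, cnj_apply, inv_smul_smul]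
  rcases hirr.2 _ hinv with h | h
  · exfalso
    refine he.ne_zero (AddMonoidHom.ext fun w => ?_)
    have h1 : s * e = e := by
      change (∑ q : G ⧸ blockStab G e, trans e q) * e = e
      rw [Finset.sum_mul, Finset.sum_eq_single ((1 : G) : G ⧸ blockStab G e)]
      · rw [trans_mk, cnj_one, he.idem]
      · intro q _ hq
        have := trans_orth he hq
        rwa [trans_mk, cnj_one] at this
      · simp
    have h2 : s (e w) ∈ AddMonoidHom.range (s : V →+ V) := ⟨e w, rfl⟩
    rw [h, AddSubgroup.mem_bot] at h2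
    have h3 := DFunLike.congr_fun h1 w
    rw [AddMonoid.End.coe_mul, Function.comp_apply, h2] at h3
    exact h3.symm
  · obtain ⟨w, hw⟩ : v ∈ AddMonoidHom.range (s : V →+ V) := h ▸ AddSubgroup.mem_top v
    rw [← hsv, ← hw]
    exact DFunLike.congr_fun hs w

theorem exists_coarser [Finite G] {e : AddMonoid.End V} (he : IsBlock G e)
    {M : Subgroup G} (hle : blockStab G e ≤ M) (hM : M ≠ ⊤) :
    ∃ e' : AddMonoid.End V, IsBlock G e' ∧ M ≤ blockStab G e' := by
  classical
  have := Fintype.ofFinite (G ⧸ blockStab G e)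
  let S : G → Finset (G ⧸ blockStab G e) := fun g =>
    Finset.univ.filter fun q => g⁻¹ * q.out ∈ M
  let e' : AddMonoid.End V := ∑ q ∈ S 1, trans e q
  have hcnj : ∀ g, cnj g e' = ∑ q ∈ S g, trans e q := by
    intro g
    calc cnj g e' = ∑ q ∈ S 1, cnj g (trans e q) := by
          simp only [e', cnj, Finset.mul_sum, Finset.sum_mul]
      _ = ∑ q ∈ S g, trans e q := by
          refine Finset.sum_equiv (MulAction.toPerm g) (fun q => ?_)
            (fun q _ => cnj_trans e g q)
          have key : (g • q).out⁻¹ * (g * q.out) ∈ M := hle (QuotientGroup.eq.1 (by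
            rw [QuotientGroup.out_eq', ← smul_eq_mul, ← MulAction.Quotient.smul_coe,
              QuotientGroup.out_eq']))
          simp only [S, Finset.mem_filter, Finset.mem_univ, true_and, MulAction.toPerm_apply]
          rw [inv_one, one_mul]
          have hrw : q.out = g⁻¹ * (g • q).out * ((g • q).out⁻¹ * (g * q.out)) := by group
          constructor
          · intro hq
            rw [hrw] at hq
            exact (M.mul_mem_cancel_right key).1 hq
          · intro hq
            rw [hrw]
            exact M.mul_mem hq key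
  have hmem : ∀ g ∈ M, cnj g e' = e' := by
    intro g hg
    rw [hcnj]
    refine Finset.sum_congr (Finset.filter_congr fun q _ => ?_) fun _ _ => rfl
    rw [inv_one, one_mul]
    exact M.mul_mem_cancel_left (M.inv_mem hg)
  have hidem : ∀ q, trans e q * trans e q = trans e q := trans_idem he
  have horth : ∀ q q', q ≠ q' → trans e q * trans e q' = 0 := fun q q' h => trans_orth he h
  have hdisj : ∀ g ∉ M, cnj g e' * e' = 0 := by
    intro g hg
    rw [hcnj, sum_mul_sum _ _ _ hidem horth]
    refine Finset.sum_eq_zero fun q hq => absurd ?_ hg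
    simp only [S, Finset.mem_inter, Finset.mem_filter, Finset.mem_univ, true_and, inv_one,
      one_mul] at hq
    exact M.inv_mem_iff.1 ((M.mul_mem_cancel_right hq.2).1 hq.1)
  have hid : e' * e' = e' := by
    simp only [e']
    rw [sum_mul_sum _ _ _ hidem horth, Finset.inter_self]
  have he1 : e' * e = e := by
    have : e = ∑ q ∈ ({((1 : G) : G ⧸ blockStab G e)} : Finset _), trans e q := by
      rw [Finset.sum_singleton, trans_mk, cnj_one]
    conv_lhs => rw [this]
    simp only [e']
    rw [sum_mul_sum _ _ _ hidem horth]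
    conv_rhs => rw [this]
    refine Finset.sum_congr ?_ fun _ _ => rfl
    rw [Finset.inter_eq_right, Finset.singleton_subset_iff]
    simp only [S, Finset.mem_filter, Finset.mem_univ, true_and, inv_one, one_mul]
    obtain ⟨⟨h, hh⟩, ho⟩ := QuotientGroup.mk_out_eq_mul (blockStab G e) (1 : G)
    rw [ho, one_mul]
    exact hle hh
  have hne0 : e' ≠ 0 := fun h => he.ne_zero (by rw [← he1, h, zero_mul])
  obtain ⟨g, -, hg⟩ := SetLike.exists_of_lt (lt_top_iff_ne_top.2 hM)
  refine ⟨e', ⟨hid, hne0, fun h => ?_, fun g' hg' => hdisj g' fun hm => hg' (hmem g' hm)⟩, hmem⟩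
  have h0 := hdisj g hg
  rw [h, mul_one] at h0
  have := cnj_injective g (h0.trans (cnj_map_zero g).symm)
  exact hne0 (h.trans this)

/-- If there is a block idempotent, one can take its stabiliser maximal. -/
theorem exists_maximal_block [Finite G] (hirr : Irred G V)
    (h : ∃ e : AddMonoid.End V, IsBlock G e) :
    ∃ e : AddMonoid.End V, IsBlock G e ∧ IsCoatom (blockStab G e) := by
  let S : Set (Subgroup G) := {M | ∃ e : AddMonoid.End V, IsBlock G e ∧ blockStab G e = M}
  have hS : S.Finite := Set.toFinite S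
  have hmem : blockStab G h.choose ∈ S := ⟨h.choose, h.choose_spec, rfl⟩
  obtain ⟨M, -, hmax⟩ := hS.exists_le_maximal hmem
  obtain ⟨e, he, rfl⟩ := hmax.prop
  refine ⟨e, he, blockStab_ne_top hirr he, fun N hN => ?_⟩
  by_contra hne
  obtain ⟨e', he', hle⟩ := exists_coarser he hN.le hne
  exact lt_irrefl _ (hN.trans_le (hle.trans (hmax.2 ⟨e', he', rfl⟩ (hN.le.trans hle))))

section Cosets

theorem exists_abelian_normal [Group.IsSolvable G] [Nontrivial G] :
    ∃ A : Subgroup G, A.Normal ∧ A ≠ ⊥ ∧ ∀ a ∈ A, ∀ b ∈ A, a * b = b * a := by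
  classical
  obtain ⟨n, hn⟩ := (Group.isSolvable_def G).1 inferInstance
  have hex : ∃ n, derivedSeries G n = ⊥ := ⟨n, hn⟩
  obtain ⟨m, hm⟩ : ∃ m, Nat.find hex = m + 1 := by
    refine Nat.exists_eq_succ_of_ne_zero fun h0 => ?_
    have := Nat.find_spec hex
    rw [h0, derivedSeries_zero] at this
    exact top_ne_bot this
  refine ⟨derivedSeries G m, derivedSeries_normal G m, fun h => ?_, fun a ha b hb => ?_⟩
  · have := Nat.find_min' hex h
    omega
  · have h1 := Nat.find_spec hex
    rw [hm, derivedSeries_succ] at h1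
    have h2 : ⁅a, b⁆ ∈ (⊥ : Subgroup G) := h1 ▸ Subgroup.commutator_mem_commutator ha hb
    exact commutatorElement_eq_one_iff_mul_comm.1 (Subgroup.mem_bot.1 h2)

/-- Five colours distinguish the points of a primitive solvable permutation group. -/
theorem exists_coset_colouring [Finite G] [Group.IsSolvable G] {M : Subgroup G}
    (hM : IsCoatom M) :
    ∃ c : G ⧸ M → Fin 5, ∀ g : G, (∀ q, c (g • q) = c q) → ∀ q : G ⧸ M, g • q = q := by
  classical
  let K := M.normalCore
  have hKM : K ≤ M := M.normalCore_le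
  haveI : Nontrivial (G ⧸ K) := QuotientGroup.nontrivial_iff.2 fun h =>
    hM.1 (top_le_iff.1 (h ▸ hKM))
  obtain ⟨A, hAn, hA1, hAc⟩ := exists_abelian_normal (G := G ⧸ K)
  let N : Subgroup G := A.comap (QuotientGroup.mk' K)
  haveI hNn : N.Normal := hAn.comap _
  have hNM : N ⊔ M = ⊤ := by
    refine hM.2 _ (lt_of_le_of_ne le_sup_right fun h => hA1 ?_)
    have hNleM : N ≤ M := h ▸ le_sup_left
    have hNK : N ≤ K := Subgroup.normal_le_normalCore.2 hNleM
    rw [eq_bot_iff]
    intro a ha
    obtain ⟨x, rfl⟩ := QuotientGroup.mk'_surjective K a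
    exact Subgroup.mem_bot.2 ((QuotientGroup.eq_one_iff x).2 (hNK ha))
  have hcomm : ∀ a ∈ N, ∀ b ∈ N, ⁅a, b⁆ ∈ K := fun a ha b hb => by
    rw [← QuotientGroup.eq_one_iff]
    exact (map_commutatorElement (QuotientGroup.mk' K) a b).trans
      (commutatorElement_eq_one_iff_mul_comm.2 (hAc _ ha _ hb))
  have hint : N ⊓ M ≤ K := by
    haveI : (N ⊓ M).Normal := by
      rw [← Subgroup.normalizer_eq_top_iff, eq_top_iff, ← hNM, sup_le_iff]
      constructor
      · intro a ha
        rw [Subgroup.mem_normalizer_iff]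
        intro x
        have hKN : ∀ k ∈ K, k ∈ N ⊓ M := fun k hk => ⟨by
          change QuotientGroup.mk' K k ∈ A
          rw [show QuotientGroup.mk' K k = 1 from (QuotientGroup.eq_one_iff k).2 hk]
          exact one_mem A, hKM hk⟩
        have main : ∀ b ∈ N, ∀ y ∈ N ⊓ M, b * y * b⁻¹ ∈ N ⊓ M := fun b hb y hy => by
          rw [show b * y * b⁻¹ = ⁅b, y⁆ * y by rw [commutatorElement_def]; group]
          exact mul_mem (hKN _ (hcomm b hb y hy.1)) hy
        exact ⟨main a ha x, fun hx => by
          simpa [mul_assoc] using main a⁻¹ (Subgroup.inv_mem N ha) _ hx⟩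
      · intro a ha
        rw [Subgroup.mem_normalizer_iff]
        intro x
        have main : ∀ b ∈ M, ∀ y ∈ N ⊓ M, b * y * b⁻¹ ∈ N ⊓ M := fun b hb y hy =>
          ⟨hNn.conj_mem y hy.1 b, M.mul_mem (M.mul_mem hb hy.2) (M.inv_mem hb)⟩
        exact ⟨main a ha x, fun hx => by
          simpa [mul_assoc] using main a⁻¹ (Subgroup.inv_mem M ha) _ hx⟩
    exact Subgroup.normal_le_normalCore.2 inf_le_right
  have hrep : ∀ q : G ⧸ M, ∃ n ∈ N, (n : G ⧸ M) = q := by
    intro q
    obtain ⟨n, hn, m, hm, he⟩ :=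
      Subgroup.mem_sup_of_normal_left.1 (hNM ▸ Subgroup.mem_top q.out : q.out ∈ N ⊔ M)
    refine ⟨n, hn, ?_⟩
    rw [← QuotientGroup.out_eq' q, ← he, QuotientGroup.eq]
    simpa using hm
  choose n hn hnq using hrep
  letI : CommGroup ↥A := { (inferInstance : Group ↥A) with
    mul_comm := fun a b => Subtype.ext (hAc a a.2 b b.2) }
  obtain ⟨col, hc1, hc0, hcol⟩ := exists_colouring A
  let π : N → A := fun x => ⟨QuotientGroup.mk' K x.1, x.2⟩
  have hwd : ∀ (x : N), π ⟨n ((x : G) : G ⧸ M), hn _⟩ = π x := by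
    intro x
    apply Subtype.ext
    change ((n ((x : G) : G ⧸ M) : G) : G ⧸ K) = ((x : G) : G ⧸ K)
    exact QuotientGroup.eq.2 (hint ⟨N.mul_mem (N.inv_mem (hn _)) x.2, QuotientGroup.eq.1 (hnq _)⟩)
  refine ⟨fun q => col (π ⟨n q, hn q⟩), fun g hg => ?_⟩
  have hg1 : g ∈ M := by
    have h0 : col (π ⟨n ((1 : G) : G ⧸ M), hn _⟩) = 0 := by
      rw [hwd ⟨1, one_mem N⟩]
      convert hc1 using 2
      exact Subtype.ext (map_one (QuotientGroup.mk' K))
    have h := hg ((1 : G) : G ⧸ M)
    simp only [h0] at h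
    have h1 : ((n (g • ((1 : G) : G ⧸ M)) : G) : G ⧸ K) = 1 := congrArg Subtype.val (hc0 _ h)
    have h2 : ((n (g • ((1 : G) : G ⧸ M)) : G) : G ⧸ M) = ((g * 1 : G) : G ⧸ M) := hnq _
    have h3 := M.mul_mem (hKM ((QuotientGroup.eq_one_iff _).1 h1)) (QuotientGroup.eq.1 h2)
    simpa using h3
  have hsmul : ∀ x : G, g • (x : G ⧸ M) = ((g * x * g⁻¹ : G) : G ⧸ M) := fun x => by
    rw [MulAction.Quotient.smul_coe, smul_eq_mul, QuotientGroup.eq]
    simpa [mul_assoc] using inv_mem hg1
  let φ : A →* A :=
    { toFun := fun a => ⟨QuotientGroup.mk' K g * a.1 * (QuotientGroup.mk' K g)⁻¹,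
        hAn.conj_mem _ a.2 _⟩
      map_one' := by apply Subtype.ext; simp
      map_mul' := fun a b => by apply Subtype.ext; simp [mul_assoc] }
  have hφ : Function.Injective φ := fun a b h =>
    Subtype.ext (mul_left_cancel (mul_right_cancel (congrArg Subtype.val h)))
  have hconjN : ∀ x : N, g * (x : G) * g⁻¹ ∈ N := fun x => hNn.conj_mem _ x.2 g
  have hφπ : ∀ x : N, φ (π x) = π ⟨g * (x : G) * g⁻¹, hconjN x⟩ := fun x =>
    Subtype.ext (by simp [φ, π])
  have hfix : ∀ a : A, φ a = a := hcol φ hφ (by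
    intro a
    obtain ⟨x, hx⟩ := QuotientGroup.mk'_surjective K (a : G ⧸ K)
    have hxN : x ∈ N := by change QuotientGroup.mk' K x ∈ A; rw [hx]; exact a.2
    have ha : a = π ⟨x, hxN⟩ := Subtype.ext hx.symm
    have := hg ((x : G) : G ⧸ M)
    simp only [hsmul] at this
    rw [hwd ⟨_, hconjN ⟨x, hxN⟩⟩, hwd ⟨x, hxN⟩] at this
    rw [ha, hφπ]
    exact this)
  intro q
  have hk := congrArg Subtype.val ((hφπ ⟨n q, hn q⟩).symm.trans (hfix _))
  have hk' : ((g * n q * g⁻¹ : G) : G ⧸ K) = ((n q : G) : G ⧸ K) := hk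
  rw [← hnq q, hsmul, QuotientGroup.eq]
  exact hKM (QuotientGroup.eq.1 hk')

end Cosets

section Combine

/-- The image of an idempotent. -/
def blockSpace (e : AddMonoid.End V) : AddSubgroup V where
  carrier := {v | e v = v}
  add_mem' := fun {a b} ha hb => by change e (a + b) = a + b; rw [map_add, ha, hb]
  zero_mem' := map_zero e
  neg_mem' := fun {a} ha => by change e (-a) = -a; rw [map_neg, ha]

theorem smul_apply_of_mem {e : AddMonoid.End V} {g : G} (hg : g ∈ blockStab G e) (v : V) :
    e (g • v) = g • e v := by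
  have := DFunLike.congr_fun (mem_blockStab.1 hg) (g • v)
  rw [cnj_apply, inv_smul_smul] at this
  exact this.symm

instance blockAction (e : AddMonoid.End V) :
    DistribMulAction (blockStab G e) (blockSpace e) where
  smul g w := ⟨(g : G) • (w : V), by
    change e ((g : G) • (w : V)) = (g : G) • (w : V)
    rw [smul_apply_of_mem g.2, w.2]⟩
  one_smul w := Subtype.ext (one_smul G (w : V))
  mul_smul g h w := Subtype.ext (mul_smul (g : G) (h : G) (w : V))
  smul_zero g := Subtype.ext (smul_zero (g : G))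
  smul_add g a b := Subtype.ext (smul_add (g : G) (a : V) (b : V))

theorem coe_blockAction {e : AddMonoid.End V} (g : blockStab G e) (w : blockSpace e) :
    ((g • w : blockSpace e) : V) = (g : G) • (w : V) := rfl

variable [Finite G] {e : AddMonoid.End V}

theorem irred_blockSpace (hirr : Irred G V) (he : IsBlock G e) :
    Irred (blockStab G e) (blockSpace e) := by
  classical
  have := Fintype.ofFinite (G ⧸ blockStab G e)
  refine ⟨?_, fun U hU => ?_⟩
  · obtain ⟨v, hv⟩ : ∃ v, e v ≠ 0 := by
      by_contra hc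
      push Not at hc
      exact he.ne_zero (AddMonoidHom.ext hc)
    exact ⟨⟨⟨e v, DFunLike.congr_fun he.idem v⟩, 0, fun h => hv (congrArg Subtype.val h)⟩⟩
  rcases eq_or_ne U ⊥ with h | h
  · exact Or.inl h
  refine Or.inr ?_
  let U' : AddSubgroup V :=
    AddSubgroup.closure {x | ∃ g : G, ∃ u ∈ U, x = g • ((u : blockSpace e) : V)}
  have hU' : ∀ g : G, ∀ v ∈ U', g • v ∈ U' := by
    intro g v hv
    induction hv using AddSubgroup.closure_induction with
    | mem x hx =>
      obtain ⟨k, u, hu, rfl⟩ := hx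
      exact AddSubgroup.subset_closure ⟨g * k, u, hu, (mul_smul _ _ _).symm⟩
    | zero => rw [smul_zero]; exact U'.zero_mem
    | add x y _ _ hx hy => rw [smul_add]; exact U'.add_mem hx hy
    | neg x _ hx => rw [smul_neg]; exact U'.neg_mem hx
  rcases hirr.2 U' hU' with h' | h'
  · exfalso
    refine h ((AddSubgroup.eq_bot_iff_forall _).2 fun u hu => ?_)
    have : (u : V) ∈ U' := AddSubgroup.subset_closure ⟨1, u, hu, (one_smul G _).symm⟩
    rw [h', AddSubgroup.mem_bot] at this
    exact Subtype.ext this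
  · have hproj : ∀ v ∈ U', e v ∈ U.map (blockSpace e).subtype := by
      intro v hv
      induction hv using AddSubgroup.closure_induction with
      | mem x hx =>
        obtain ⟨g, u, hu, rfl⟩ := hx
        by_cases hg : g ∈ blockStab G e
        · refine ⟨(⟨g, hg⟩ : blockStab G e) • u, hU _ u hu, ?_⟩
          rw [smul_apply_of_mem hg, u.2]
          rfl
        · have h1 : e * cnj g e = 0 := by
            have := trans_orth he (q := ((1 : G) : G ⧸ blockStab G e))
              (q' := ((g : G) : G ⧸ blockStab G e))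
              (fun h => hg (by simpa using QuotientGroup.eq.1 h))
            rwa [trans_mk, trans_mk, cnj_one] at this
          have h2 := DFunLike.congr_fun h1 (g • (u : V))
          rw [AddMonoid.End.coe_mul, Function.comp_apply, cnj_apply, inv_smul_smul, u.2] at h2
          rw [h2]
          exact AddSubgroup.zero_mem _
      | zero => rw [map_zero]; exact AddSubgroup.zero_mem _
      | add x y _ _ hx hy => rw [map_add]; exact AddSubgroup.add_mem _ hx hy
      | neg x _ hx => rw [map_neg]; exact AddSubgroup.neg_mem _ hx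
    refine (AddSubgroup.eq_top_iff' _).2 fun w => ?_
    obtain ⟨u, hu, hw⟩ := hproj w (h' ▸ AddSubgroup.mem_top _)
    rw [(w.2 : e (w : V) = w)] at hw
    exact (Subtype.ext hw : u = w) ▸ hu

theorem regular_of_block [Group.IsSolvable G] (hirr : Irred G V) (he : IsBlock G e)
    (hmax : IsCoatom (blockStab G e)) (h5 : FiveRegular (blockStab G e) (blockSpace e)) :
    ∃ t : V × V × V, Regular G t := by
  classical
  have := Fintype.ofFinite (G ⧸ blockStab G e)
  obtain ⟨s, hs, hinj⟩ := h5
  obtain ⟨c, hc⟩ := exists_coset_colouring hmax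
  let put : (blockSpace e × blockSpace e × blockSpace e → blockSpace e) → V := fun π =>
    ∑ q : G ⧸ blockStab G e, q.out • ((π (s (c q)) : blockSpace e) : V)
  have hput : ∀ π q, e (q.out⁻¹ • put π) = ((π (s (c q)) : blockSpace e) : V) := by
    intro π q
    change e (q.out⁻¹ • ∑ q' : G ⧸ blockStab G e, _) = _
    rw [Finset.smul_sum, map_sum, Finset.sum_eq_single q]
    · rw [inv_smul_smul]; exact (π (s (c q))).2
    · intro q' _ hne
      have h1 := DFunLike.congr_fun (trans_orth he hne.symm) (q'.out • ((π (s (c q')) : blockSpace e) : V))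
      rw [AddMonoid.End.coe_mul, Function.comp_apply, trans, trans, cnj_apply, cnj_apply,
        inv_smul_smul, (π (s (c q'))).2] at h1
      exact (smul_eq_zero_iff_eq _).1 h1
    · simp
  refine ⟨(put Prod.fst, put (fun x => x.2.1), put (fun x => x.2.2)), fun g h1 h2 h3 => ?_⟩
  have hm : ∀ q : G ⧸ blockStab G e, (g • q).out⁻¹ * (g * q.out) ∈ blockStab G e := fun q =>
    QuotientGroup.eq.1 (by
      rw [QuotientGroup.out_eq', ← smul_eq_mul, ← MulAction.Quotient.smul_coe,
        QuotientGroup.out_eq'])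
  have key : ∀ π, g • put π = put π → ∀ q, (⟨_, hm q⟩ : blockStab G e) • π (s (c q)) =
      π (s (c (g • q))) := by
    intro π hfix q
    apply Subtype.ext
    rw [coe_blockAction, ← hput π q, ← hput π (g • q), ← smul_apply_of_mem (hm q)]
    congr 1
    rw [smul_smul, show (g • q).out⁻¹ * (g * q.out) * q.out⁻¹ = (g • q).out⁻¹ * g by group,
      mul_smul, hfix]
  have key3 : ∀ q, (⟨_, hm q⟩ : blockStab G e) • s (c q) = s (c (g • q)) := fun q =>
    Prod.ext (key Prod.fst h1 q) (Prod.ext (key (fun x => x.2.1) h2 q) (key (fun x => x.2.2) h3 q))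
  have hq : ∀ q : G ⧸ blockStab G e, g • q = q :=
    hc g fun q => (hinj _ _ _ (key3 q)).symm
  have hW : ∀ (q : G ⧸ blockStab G e) (w : V), e w = w → g • (q.out • w) = q.out • w := by
    intro q w hw
    have h4 := key3 q
    rw [← hinj _ _ _ (key3 q)] at h4
    have h5 := congrArg Subtype.val (hs (c q) _ (congrArg Prod.fst h4)
      (congrArg (fun x => x.2.1) h4) (congrArg (fun x => x.2.2) h4) ⟨w, hw⟩)
    rw [coe_blockAction] at h5
    change ((g • q).out⁻¹ * (g * q.out)) • w = w at h5
    rw [hq q, mul_smul, inv_smul_eq_iff, mul_smul] at h5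
    exact h5
  intro w
  conv_rhs => rw [← sum_trans hirr he w]
  rw [← sum_trans hirr he w, Finset.smul_sum, sum_trans hirr he w]
  refine Finset.sum_congr rfl fun q _ => ?_
  rw [trans, cnj_apply]
  exact hW q _ (DFunLike.congr_fun he.idem _)

end Combine

end Cfsg.Agent.H10.BaseThree
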