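import Mathlib
import Cfsg.Agent.H10.BaseThree.Blocks

/-!
# Without blocks, the ring spanned by an abelian normal subgroup acts without zero divisors
-/

namespace Cfsg.Agent.H10.BaseThree

variable {G V : Type*} [Group G] [AddCommGroup V] [DistribMulAction G V]

variable (V) in
/-- The ring of endomorphisms generated by a subgroup. -/
def scalars (T : Subgroup G) : Subring (AddMonoid.End V) :=
  Subring.closure (DistribMulAction.toAddMonoidEnd G V '' T)

variable (V) in
/-- The element of `T` as a scalar. -/
def toScalar (T : Subgroup G) : T →* scalars V T where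
  toFun t := ⟨DistribMulAction.toAddMonoidEnd G V t, Subring.subset_closure ⟨t, t.2, rfl⟩⟩
  map_one' := Subtype.ext (map_one (DistribMulAction.toAddMonoidEnd G V))
  map_mul' s t := Subtype.ext (map_mul (DistribMulAction.toAddMonoidEnd G V) (s : G) (t : G))

theorem toScalar_apply (T : Subgroup G) (t : T) (v : V) :
    (toScalar V T t : AddMonoid.End V) v = (t : G) • v := rfl

theorem scalars_comm {T : Subgroup G} (hT : ∀ a ∈ T, ∀ b ∈ T, a * b = b * a)
    {x y : AddMonoid.End V} (hx : x ∈ scalars V T) (hy : y ∈ scalars V T) : x * y = y * x := by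
  have h1 : ∀ a ∈ DistribMulAction.toAddMonoidEnd G V '' (T : Set G), a * y = y * a := by
    intro a ha
    have : a ∈ Subring.centralizer (DistribMulAction.toAddMonoidEnd G V '' (T : Set G)) := by
      rw [Subring.mem_centralizer_iff]
      obtain ⟨s, hs, rfl⟩ := ha
      rintro _ ⟨t, ht, rfl⟩
      rw [← map_mul, ← map_mul, hT t ht s hs]
    have hy' : y ∈ Subring.centralizer {a} := by
      refine (Subring.closure_le.2 ?_) hy
      intro z hz
      rw [SetLike.mem_coe, Subring.mem_centralizer_iff]
      intro b hb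
      rw [Set.mem_singleton_iff.1 hb]
      exact (Subring.mem_centralizer_iff.1 this z hz).symm
    exact Subring.mem_centralizer_iff.1 hy' a rfl
  have hx' : x ∈ Subring.centralizer {y} := by
    refine (Subring.closure_le.2 ?_) hx
    intro z hz
    rw [SetLike.mem_coe, Subring.mem_centralizer_iff]
    intro b hb
    rw [Set.mem_singleton_iff.1 hb]
    exact (h1 z hz).symm
  exact (Subring.mem_centralizer_iff.1 hx' y rfl).symm

theorem cnj_mem_scalars {T : Subgroup G} [T.Normal] {x : AddMonoid.End V} (hx : x ∈ scalars V T)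
    (g : G) : cnj g x ∈ scalars V T := by
  induction hx using Subring.closure_induction with
  | mem y hy =>
    obtain ⟨t, ht, rfl⟩ := hy
    refine Subring.subset_closure ⟨g * t * g⁻¹, Subgroup.Normal.conj_mem ‹_› t ht g, ?_⟩
    ext v
    change (g * t * g⁻¹) • v = g • t • g⁻¹ • v
    rw [mul_smul, mul_smul]
  | zero => rw [cnj_map_zero]; exact zero_mem _
  | one =>
    have : cnj g (1 : AddMonoid.End V) = 1 := by ext v; simp
    rw [this]; exact one_mem _
  | add a b _ _ ha hb =>
    have : cnj g (a + b) = cnj g a + cnj g b :=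
      AddMonoidHom.ext fun v => smul_add g (a (g⁻¹ • v)) (b (g⁻¹ • v))
    rw [this]; exact add_mem ha hb
  | neg a _ ha =>
    have : cnj g (-a) = -cnj g a := AddMonoidHom.ext fun v => smul_neg g (a (g⁻¹ • v))
    rw [this]; exact neg_mem ha
  | mul a b _ _ ha hb => rw [cnj_map_mul]; exact mul_mem ha hb

theorem exists_idempotent_pow {M : Type*} [Monoid M] [Finite M] (x : M) :
    ∃ k, 0 < k ∧ x ^ k * x ^ k = x ^ k := by
  obtain ⟨a, b, hne, he⟩ := Finite.exists_ne_map_eq_of_infinite (fun n : ℕ => x ^ n)
  wlog hlt : a < b generalizing a b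
  · exact this b a hne.symm he.symm (by omega)
  have hstep : ∀ n, a ≤ n → ∀ j : ℕ, x ^ (n + j * (b - a)) = x ^ n := by
    intro n hn j
    induction j with
    | zero => simp
    | succ j ih =>
      rw [Nat.succ_mul, ← Nat.add_assoc, pow_add, ih, ← pow_add,
        show n + (b - a) = (n - a) + b by omega, pow_add]
      rw [← show x ^ a = x ^ b from he, ← pow_add]
      congr 1
      omega
  refine ⟨(a + 1) * (b - a), Nat.mul_pos (by omega) (by omega), ?_⟩
  rw [← pow_add]
  exact hstep _ (le_trans (Nat.le_succ a) (Nat.le_mul_of_pos_right _ (by omega))) (a + 1)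

variable [Finite V]

instance : Finite (AddMonoid.End V) :=
  Finite.of_injective (fun f => (f : V → V)) DFunLike.coe_injective

/-- If there is no block idempotent then nonzero scalars have trivial kernel. -/
theorem scalars_injective (hirr : Irred G V) (hnb : ∀ e : AddMonoid.End V, ¬ IsBlock G e)
    {T : Subgroup G} [T.Normal] (hT : ∀ a ∈ T, ∀ b ∈ T, a * b = b * a)
    {x : AddMonoid.End V} (hx : x ∈ scalars V T) (hx0 : x ≠ 0) {v : V} (hv : x v = 0) : v = 0 := by
  classical
  have := hirr.1
  -- no nilpotent scalars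
  have hnil : ∀ y ∈ scalars V T, IsNilpotent y → y = 0 := by
    let U : AddSubgroup V :=
      { carrier := {w | ∀ y ∈ scalars V T, IsNilpotent y → y w = 0}
        add_mem' := fun ha hb y hy hn => by rw [map_add, ha y hy hn, hb y hy hn, add_zero]
        zero_mem' := fun y _ _ => map_zero y
        neg_mem' := fun ha y hy hn => by rw [map_neg, ha y hy hn, neg_zero] }
    have hinv : ∀ g : G, ∀ w ∈ U, g • w ∈ U := by
      intro g w hw y hy hn
      obtain ⟨n, hn⟩ := hn
      have hn' : IsNilpotent (cnj g⁻¹ y) := by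
        refine ⟨n, ?_⟩
        have : ∀ m, cnj g⁻¹ y ^ m = cnj g⁻¹ (y ^ m) := by
          intro m
          induction m with
          | zero => ext u; simp
          | succ m ih => rw [pow_succ, pow_succ, ih, cnj_map_mul]
        rw [this, hn, cnj_map_zero]
      have h1 := hw (cnj g⁻¹ y) (cnj_mem_scalars hy _) hn'
      rw [cnj_apply, inv_inv, smul_eq_zero_iff_eq] at h1
      exact h1
    rcases hirr.2 U hinv with h | h
    · exfalso
      -- a vector with maximal annihilator is killed by every nilpotent scalar
      have : ∃ w : V, w ≠ 0 ∧ ∀ u : V, u ≠ 0 →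
          ({y | y ∈ scalars V T ∧ y w = 0} ⊆ {y | y ∈ scalars V T ∧ y u = 0}) →
          {y | y ∈ scalars V T ∧ y u = 0} ⊆ {y | y ∈ scalars V T ∧ y w = 0} := by
        obtain ⟨w, hw, hmax⟩ := Set.Finite.exists_maximalFor
          (fun w => {y | y ∈ scalars V T ∧ y w = 0}) {w : V | w ≠ 0} (Set.toFinite _)
          (exists_ne 0)
        exact ⟨w, hw, fun u hu hle => hmax hu hle⟩
      obtain ⟨w, hw, hmax⟩ := this
      refine hw (AddSubgroup.mem_bot.1 (h ▸ (fun y hy hn => ?_ : w ∈ U)))
      by_contra hyw
      obtain ⟨n, hn⟩ := hn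
      have hsub : {z | z ∈ scalars V T ∧ z w = 0} ⊆ {z | z ∈ scalars V T ∧ z (y w) = 0} := by
        rintro z ⟨hz, hzw⟩
        refine ⟨hz, ?_⟩
        have := DFunLike.congr_fun (scalars_comm hT hz hy) w
        simp only [AddMonoid.End.coe_mul, Function.comp_apply] at this
        rw [this, hzw, map_zero]
      have hpow : ∀ m, (y ^ (m + 1)) w ≠ 0 := by
        intro m
        induction m with
        | zero => simpa using hyw
        | succ m ih =>
          intro hc
          refine ih (hmax (y w) hyw hsub ⟨pow_mem hy _, ?_⟩).2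
          rw [pow_succ, AddMonoid.End.coe_mul, Function.comp_apply] at hc
          exact hc
      have := hpow n
      rw [pow_succ, hn, zero_mul] at this
      exact this rfl
    · intro y hy hn
      exact AddMonoidHom.ext fun w => (h ▸ AddSubgroup.mem_top w : w ∈ U) y hy hn
  -- no nontrivial idempotent scalars
  have hidem : ∀ e ∈ scalars V T, e * e = e → e = 0 ∨ e = 1 := by
    by_contra hc
    push Not at hc
    obtain ⟨f, hf, hff, hf0, hf1⟩ := hc
    obtain ⟨e, ⟨he, hee, he0, he1⟩, hmin⟩ := Set.Finite.exists_minimalFor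
      (fun e : AddMonoid.End V => Nat.card (Set.range e))
      {e : AddMonoid.End V | e ∈ scalars V T ∧ e * e = e ∧ e ≠ 0 ∧ e ≠ 1} (Set.toFinite _)
      ⟨f, hf, hff, hf0, hf1⟩
    have hfix : ∀ a : AddMonoid.End V, a * a = a → ∀ w ∈ Set.range a, a w = w := by
      rintro a ha _ ⟨u, rfl⟩
      exact DFunLike.congr_fun ha u
    have hatom : ∀ d ∈ scalars V T, d * d = d → e * d = 0 ∨ e * d = e := by
      intro d hd hdd
      rcases eq_or_ne (e * d) 0 with h | h
      · exact Or.inl h
      refine Or.inr ?_
      have hi : e * d * (e * d) = e * d := by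
        rw [mul_assoc, ← mul_assoc d, scalars_comm hT hd he, mul_assoc e d, hdd, ← mul_assoc, hee]
      have h1 : e * d ≠ 1 := by
        intro hc
        apply he1
        rw [← mul_one e, ← hc, ← mul_assoc, hee]
      have hsub : Set.range (e * d : AddMonoid.End V) ⊆ Set.range e := by
        rintro _ ⟨u, rfl⟩; exact ⟨d u, rfl⟩
      have hcard := hmin ⟨mul_mem he hd, hi, h, h1⟩
        (Nat.card_mono (Set.toFinite _) hsub)
      have heq : Set.range (e * d : AddMonoid.End V) = Set.range e :=
        Set.eq_of_subset_of_ncard_le hsub hcard (Set.toFinite _)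
      refine AddMonoidHom.ext fun u => ?_
      have h2 : e u ∈ Set.range (e * d : AddMonoid.End V) := heq ▸ ⟨u, rfl⟩
      have h3 := hfix _ hi _ h2
      have h4 : e * d * e = e * d := by
        rw [mul_assoc, scalars_comm hT hd he, ← mul_assoc, hee]
      have h5 := DFunLike.congr_fun h4 u
      exact h5.symm.trans h3
    refine hnb e ⟨hee, he0, he1, fun g hg => ?_⟩
    have hge : cnj g e ∈ scalars V T := cnj_mem_scalars he g
    have hgee : cnj g e * cnj g e = cnj g e := by rw [← cnj_map_mul, hee]
    rw [scalars_comm hT hge he]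
    rcases hatom _ hge hgee with h | h
    · exact h
    exfalso
    apply hg
    have hsub : Set.range e ⊆ Set.range (cnj g e : AddMonoid.End V) := by
      rintro _ ⟨u, rfl⟩
      refine ⟨e u, ?_⟩
      have h' := scalars_comm hT hge he
      rw [h] at h'
      have := DFunLike.congr_fun h' u
      exact this
    have hcard : Nat.card (Set.range (cnj g e : AddMonoid.End V)) ≤ Nat.card (Set.range e) := by
      have himg : Set.range (cnj g e : AddMonoid.End V) = (g • ·) '' Set.range e := by
        ext w
        constructor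
        · rintro ⟨u, rfl⟩; exact ⟨e (g⁻¹ • u), ⟨_, rfl⟩, rfl⟩
        · rintro ⟨_, ⟨u, rfl⟩, rfl⟩; exact ⟨g • u, by simp⟩
      rw [himg]
      exact Nat.card_image_le (Set.toFinite _)
    have heq : Set.range e = Set.range (cnj g e : AddMonoid.End V) :=
      Set.eq_of_subset_of_ncard_le hsub hcard (Set.toFinite _)
    refine AddMonoidHom.ext fun u => ?_
    have h2 : cnj g e u ∈ Set.range e := heq ▸ ⟨u, rfl⟩
    have h3 := hfix _ hee _ h2
    exact h3.symm.trans (DFunLike.congr_fun h u)
  obtain ⟨k, hk, hkk⟩ := exists_idempotent_pow x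
  rcases hidem _ (pow_mem hx k) hkk with h | h
  · exact absurd (hnil x hx ⟨k, h⟩) hx0
  · obtain ⟨j, rfl⟩ : ∃ j, k = j + 1 := ⟨k - 1, by omega⟩
    have := DFunLike.congr_fun h v
    rw [pow_succ, AddMonoid.End.coe_mul, Function.comp_apply, hv, map_zero] at this
    exact this.symm

theorem card_monoidHom_le (A K : Type*) [MulOneClass A] [Finite A] [Field K] :
    Finite (A →* K) ∧ Nat.card (A →* K) ≤ Nat.card A := by
  have := Fintype.ofFinite A
  have hli := linearIndependent_monoidHom A K
  have hfin : Finite (A →* K) := hli.finite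
  have := Fintype.ofFinite (A →* K)
  refine ⟨hfin, ?_⟩
  rw [Nat.card_eq_fintype_card, Nat.card_eq_fintype_card]
  exact hli.fintype_card_le_finrank.trans_eq (Module.finrank_fintype_fun_eq_card K)

end Cfsg.Agent.H10.BaseThree
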