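import Mathlib
import Cfsg.Agent.H10.BaseThree.Scalars

/-!
# A maximal isotropic subgroup of a group of symplectic type
-/

namespace Cfsg.Agent.H10.BaseThree

open scoped commutatorElement

variable {G : Type*} [Group G]

/-- `B` of class two over its cyclic centre `T`, with `L` a maximal abelian subgroup avoiding `T`. -/
structure Frame (T B L : Subgroup G) (ζ : G) : Prop where
  tnormal : T.Normal
  tle : T ≤ B
  tgen : T = Subgroup.zpowers ζ
  central : ∀ t ∈ T, ∀ b ∈ B, t * b = b * t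
  comm : ∀ a ∈ B, ∀ b ∈ B, ⁅a, b⁆ ∈ T
  centre : ∀ z ∈ B, (∀ b ∈ B, z * b = b * z) → z ∈ T
  expo : ∃ R : ℕ, Squarefree R ∧ ∀ x ∈ B, x ^ R ∈ T
  lle : L ≤ B
  lcomm : ∀ a ∈ L, ∀ b ∈ L, a * b = b * a
  linf : L ⊓ T = ⊥
  lmax : ∀ L' : Subgroup G, L ≤ L' → L' ≤ B → (∀ a ∈ L', ∀ b ∈ L', a * b = b * a) →
    L' ⊓ T = ⊥ → L' ≤ L

/-- The centraliser of `L` inside `B`. -/
def cent (B L : Subgroup G) : Subgroup G := B ⊓ Subgroup.centralizer (L : Set G)

theorem mem_cent {B L : Subgroup G} {c : G} :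
    c ∈ cent B L ↔ c ∈ B ∧ ∀ l ∈ L, l * c = c * l := by
  rw [cent, Subgroup.mem_inf, Subgroup.mem_centralizer_iff]
  rfl

variable {T B L : Subgroup G} {ζ : G}

namespace Frame

theorem comm_central (F : Frame T B L ζ) {a b c : G} (ha : a ∈ B) (hb : b ∈ B) (hc : c ∈ B) :
    ⁅a, b⁆ * c = c * ⁅a, b⁆ := F.central _ (F.comm a ha b hb) c hc

theorem comm_mul_left (F : Frame T B L ζ) {x y z : G} (hx : x ∈ B) (hy : y ∈ B) (hz : z ∈ B) :
    ⁅x * y, z⁆ = ⁅x, z⁆ * ⁅y, z⁆ := by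
  have h1 : ⁅x * y, z⁆ = x * ⁅y, z⁆ * x⁻¹ * ⁅x, z⁆ := by
    simp only [commutatorElement_def]; group
  rw [h1, ← F.comm_central hy hz hx, mul_inv_cancel_right, F.comm_central hy hz (F.tle (F.comm x hx z hz))]

theorem comm_mul_right (F : Frame T B L ζ) {x y z : G} (hx : x ∈ B) (hy : y ∈ B) (hz : z ∈ B) :
    ⁅x, y * z⁆ = ⁅x, y⁆ * ⁅x, z⁆ := by
  rw [← commutatorElement_inv, F.comm_mul_left hy hz hx, mul_inv_rev, commutatorElement_inv,
    commutatorElement_inv, F.comm_central hx hz (F.tle (F.comm x hx y hy))]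

theorem comm_pow_left (F : Frame T B L ζ) {x z : G} (hx : x ∈ B) (hz : z ∈ B) (n : ℕ) :
    ⁅x ^ n, z⁆ = ⁅x, z⁆ ^ n := by
  induction n with
  | zero => simp
  | succ n ih => rw [pow_succ, F.comm_mul_left (pow_mem hx n) hx hz, ih, ← pow_succ]

theorem comm_pow_right (F : Frame T B L ζ) {x z : G} (hx : x ∈ B) (hz : z ∈ B) (n : ℕ) :
    ⁅x, z ^ n⁆ = ⁅x, z⁆ ^ n := by
  induction n with
  | zero => simp
  | succ n ih => rw [pow_succ, F.comm_mul_right hx (pow_mem hz n) hz, ih, ← pow_succ]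

theorem mul_pow_two_class (F : Frame T B L ζ) {x y : G} (hx : x ∈ B) (hy : y ∈ B) (n : ℕ) :
    (x * y) ^ n = x ^ n * y ^ n * ⁅y, x⁆ ^ n.choose 2 := by
  induction n with
  | zero => simp
  | succ n ih =>
    set c := ⁅y, x⁆ with hc
    have hcT : ∀ m, c ^ m ∈ T := fun m => pow_mem (F.comm y hy x hx) m
    have hswap : y ^ n * x = c ^ n * (x * y ^ n) := by
      rw [← F.comm_pow_left hy hx n, commutatorElement_def]; group
    have h1 : c ^ n.choose 2 * (x * y) = x * y * c ^ n.choose 2 :=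
      F.central _ (hcT _) _ (mul_mem hx hy)
    calc (x * y) ^ (n + 1) = x ^ n * y ^ n * (c ^ n.choose 2 * (x * y)) := by
          rw [pow_succ, ih]; group
      _ = x ^ n * (y ^ n * x) * (y * c ^ n.choose 2) := by rw [h1]; group
      _ = x ^ n * (c ^ n * (x * y ^ n * y)) * c ^ n.choose 2 := by rw [hswap]; group
      _ = x ^ n * ((x * y ^ n * y) * c ^ n) * c ^ n.choose 2 := by
          rw [F.central _ (hcT n) _ (mul_mem (mul_mem hx (pow_mem hy n)) hy)]
      _ = x ^ (n + 1) * y ^ (n + 1) * c ^ (n + 1).choose 2 := by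
          rw [Nat.choose_succ_succ' n 1, Nat.choose_one_right, pow_add c, pow_succ x, pow_succ y]
          group

theorem le_cent (F : Frame T B L ζ) : L ≤ cent B L := fun l hl =>
  mem_cent.2 ⟨F.lle hl, fun l' hl' => F.lcomm l' hl' l hl⟩

theorem tle_cent (F : Frame T B L ζ) : T ≤ cent B L := fun t ht =>
  mem_cent.2 ⟨F.tle ht, fun l hl => (F.central t ht l (F.lle hl)).symm⟩

theorem sup_le_cent (F : Frame T B L ζ) : L ⊔ T ≤ cent B L := sup_le F.le_cent F.tle_cent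

theorem mem_sup_iff (F : Frame T B L ζ) {x : G} : x ∈ L ⊔ T ↔ ∃ l ∈ L, ∃ t ∈ T, l * t = x :=
  haveI := F.tnormal
  Subgroup.mem_sup_of_normal_right

theorem comm_eq_one_of_sup (F : Frame T B L ζ) {x w : G} (hx : x ∈ L ⊔ T) (hw : w ∈ cent B L) :
    ⁅x, w⁆ = 1 := by
  obtain ⟨l, hl, t, ht, rfl⟩ := F.mem_sup_iff.1 hx
  rw [F.comm_mul_left (F.lle hl) (F.tle ht) (mem_cent.1 hw).1,
    commutatorElement_eq_one_iff_mul_comm.2 ((mem_cent.1 hw).2 l hl),
    commutatorElement_eq_one_iff_mul_comm.2 (F.central t ht w (mem_cent.1 hw).1), one_mul]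

/-- Extension: no element of order `q` over `L` outside `L T`. -/
theorem mem_sup_of_pow_mem (F : Frame T B L ζ) {y : G} (hy : y ∈ cent B L) {q : ℕ} (hq : q.Prime)
    (hyq : y ^ q ∈ L) : y ∈ L ⊔ T := by
  by_contra hn
  have hly : ∀ l ∈ L, l * y = y * l := (mem_cent.1 hy).2
  let L' : Subgroup G := L ⊔ Subgroup.zpowers y
  have hmem : ∀ z ∈ L', ∃ l ∈ L, ∃ m : ℤ, l * y ^ m = z := by
    intro z hz
    have hnorm : Subgroup.zpowers y ≤ Subgroup.normalizer (L : Set G) := by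
      rw [Subgroup.zpowers_le, Subgroup.mem_normalizer_iff]
      intro x
      constructor
      · intro hx; rwa [← hly x hx, mul_inv_cancel_right]
      · intro hx
        have h' := hly _ hx
        rw [inv_mul_cancel_right] at h'
        have : y * x * y⁻¹ = x := by
          have h2 : y * (y * x * y⁻¹) = y * x := h'.symm
          exact mul_left_cancel h2
        rwa [this] at hx
    rw [← SetLike.mem_coe, Subgroup.coe_mul_of_right_le_normalizer_left _ _ hnorm] at hz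
    obtain ⟨l, hl, w, hw, rfl⟩ := hz
    obtain ⟨m, rfl⟩ := Subgroup.mem_zpowers_iff.1 hw
    exact ⟨l, hl, m, rfl⟩
  have hcomm : ∀ a ∈ L', ∀ b ∈ L', a * b = b * a := by
    intro a ha b hb
    obtain ⟨l, hl, m, rfl⟩ := hmem a ha
    obtain ⟨l', hl', m', rfl⟩ := hmem b hb
    have c1 : Commute l (y ^ m') := (show Commute l y from hly l hl).zpow_right m'
    have c2 : Commute l' (y ^ m) := (show Commute l' y from hly l' hl').zpow_right m
    have c3 : Commute l l' := F.lcomm l hl l' hl'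
    exact ((c3.mul_right c1).mul_left ((c2.symm).mul_right (Commute.zpow_zpow (Commute.refl y) m m')))
  have hinf : L' ⊓ T = ⊥ := by
    rw [eq_bot_iff]
    rintro z ⟨hz, hzT⟩
    obtain ⟨l, hl, m, rfl⟩ := hmem z hz
    have h1 : y ^ m ∈ L ⊔ T := by
      have := mul_mem (Subgroup.mem_sup_left (S := L) (T := T) (L.inv_mem hl))
        (Subgroup.mem_sup_right (S := L) hzT)
      rwa [inv_mul_cancel_left] at this
    obtain ⟨k, rfl⟩ : (q : ℤ) ∣ m := by
      by_contra hd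
      obtain ⟨u, v, huv⟩ := (Nat.prime_iff_prime_int.1 hq).coprime_iff_not_dvd.2 hd
      refine hn ?_
      have h2 : y ^ (u * (q : ℤ) + v * m) ∈ L ⊔ T := by
        rw [zpow_add, zpow_mul', zpow_mul', zpow_natCast]
        exact mul_mem (zpow_mem (Subgroup.mem_sup_left hyq) u) (zpow_mem h1 v)
      rwa [huv, zpow_one] at h2
    have h2 : l * y ^ ((q : ℤ) * k) ∈ L ⊓ T :=
      ⟨L.mul_mem hl (by rw [zpow_mul, zpow_natCast]; exact zpow_mem hyq k), hzT⟩
    rwa [F.linf] at h2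
  have hle : L' ≤ B := sup_le F.lle ((Subgroup.zpowers_le).2 (mem_cent.1 hy).1)
  exact hn (Subgroup.mem_sup_left (F.lmax L' le_sup_left hle hcomm hinf
    (Subgroup.mem_sup_right (Subgroup.mem_zpowers y))))

theorem exists_zpow_of_sup (F : Frame T B L ζ) {x : G} (hx : x ∈ L ⊔ T) :
    ∃ l ∈ L, ∃ a : ℤ, l * ζ ^ a = x := by
  obtain ⟨l, hl, t, ht, rfl⟩ := F.mem_sup_iff.1 hx
  rw [F.tgen] at ht
  obtain ⟨a, rfl⟩ := Subgroup.mem_zpowers_iff.1 ht
  exact ⟨l, hl, a, rfl⟩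

theorem zeta_mem (F : Frame T B L ζ) : ζ ∈ T := by rw [F.tgen]; exact Subgroup.mem_zpowers ζ

theorem mem_sup_of_dvd (F : Frame T B L ζ) {y l : G} (hy : y ∈ cent B L) {q : ℕ} (hq : q.Prime)
    (hl : l ∈ L) {a : ℤ} (ha : (q : ℤ) ∣ a) (hyq : y ^ q = l * ζ ^ a) : y ∈ L ⊔ T := by
  obtain ⟨m, rfl⟩ := ha
  have ht : ζ ^ (-m) ∈ T := zpow_mem F.zeta_mem _
  have h1 : y * ζ ^ (-m) ∈ L ⊔ T := by
    refine F.mem_sup_of_pow_mem (mul_mem hy (F.tle_cent ht)) hq ?_
    rw [(show Commute y (ζ ^ (-m)) from (F.central _ ht y (mem_cent.1 hy).1).symm).mul_pow, hyq,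
      ← zpow_natCast, ← zpow_mul, mul_assoc, ← zpow_add]
    simpa [mul_comm m] using hl
  have h2 := mul_mem h1 (Subgroup.mem_sup_right (S := L) (T.inv_mem ht))
  rwa [mul_inv_cancel_right] at h2

/-- `cent B L`, as a subgroup of `B`, is normal. -/
theorem cent_normal (F : Frame T B L ζ) : ((cent B L).subgroupOf B).Normal := by
  refine ⟨fun c hc g => ?_⟩
  rw [Subgroup.mem_subgroupOf] at hc ⊢
  have h := mul_mem (F.tle_cent (F.comm (g : G) g.2 (c : G) c.2)) hc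
  rw [commutatorElement_def, inv_mul_cancel_right] at h
  exact h

/-- The commutator with a fixed element as a homomorphism on `B`. -/
def kappa (F : Frame T B L ζ) (z : G) (hz : z ∈ B) : B →* T where
  toFun b := ⟨⁅z, (b : G)⁆, F.comm z hz b b.2⟩
  map_one' := Subtype.ext (commutatorElement_one_right z)
  map_mul' a b := Subtype.ext (F.comm_mul_right hz a.2 b.2)

section Count

variable [Finite G] {K : Type*} [Field K]

/-- The double centraliser property. -/
theorem mem_sup_of_central (F : Frame T B L ζ) (f : T →* K) (hf : Function.Injective f)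
    {z : G} (hz : z ∈ cent B L) (hc : ∀ w ∈ cent B L, ⁅z, w⁆ = 1) : z ∈ L ⊔ T := by
  classical
  haveI := F.cent_normal
  let N := (cent B L).subgroupOf B
  have hzero : ∀ (y : G) (hy : y ∈ B), (∀ w ∈ cent B L, ⁅y, w⁆ = 1) →
      N ≤ (f.comp (F.kappa y hy)).ker := by
    intro y hy h b hb
    rw [MonoidHom.mem_ker, MonoidHom.comp_apply,
      show F.kappa y hy b = 1 from Subtype.ext (h _ hb), map_one]
  have hlz : ∀ (l : L), ∀ w ∈ cent B L, ⁅(l : G), w⁆ = 1 := fun l w hw =>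
    commutatorElement_eq_one_iff_mul_comm.2 ((mem_cent.1 hw).2 l l.2)
  let Φ : L → (B ⧸ N →* K) := fun l =>
    QuotientGroup.lift N (f.comp (F.kappa l (F.lle l.2))) (hzero _ _ (hlz l))
  have hΦ : Function.Injective Φ := by
    intro l l' h
    have hb : ∀ b ∈ B, ⁅(l : G) * (l' : G)⁻¹, b⁆ = 1 := fun b hb => by
      have e : ⁅(l : G), b⁆ = ⁅(l' : G), b⁆ :=
        congrArg Subtype.val (hf (DFunLike.congr_fun h (QuotientGroup.mk' N ⟨b, hb⟩)))
      have h3 := F.comm_mul_left (F.lle (L.mul_mem l.2 (L.inv_mem l'.2))) (F.lle l'.2) hb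
      rw [inv_mul_cancel_right, e] at h3
      exact mul_eq_right.1 h3.symm
    have hT : (l : G) * (l' : G)⁻¹ ∈ L ⊓ T :=
      ⟨L.mul_mem l.2 (L.inv_mem l'.2), F.centre _ (F.lle (L.mul_mem l.2 (L.inv_mem l'.2)))
        fun b hbB => commutatorElement_eq_one_iff_mul_comm.1 (hb b hbB)⟩
    rw [F.linf, Subgroup.mem_bot, mul_inv_eq_one] at hT
    exact Subtype.ext hT
  let Ψ : B → (L →* K) := fun b =>
    { toFun := fun l => f (F.kappa l (F.lle l.2) b)
      map_one' := by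
        rw [show F.kappa ((1 : L) : G) (F.lle (1 : L).2) b = 1 from
          Subtype.ext (commutatorElement_one_left (b : G)), map_one]
      map_mul' := fun l l' => by
        rw [← map_mul]
        exact congrArg f (Subtype.ext (F.comm_mul_left (F.lle l.2) (F.lle l'.2) b.2)) }
  have hΨ : ∀ b c : B, Ψ b = Ψ c → (b : B ⧸ N) = (c : B ⧸ N) := by
    intro b c h
    rw [QuotientGroup.eq, Subgroup.mem_subgroupOf]
    refine mem_cent.2 ⟨SetLike.coe_mem _, fun l hl => commutatorElement_eq_one_iff_mul_comm.1 ?_⟩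
    have e : F.kappa l (F.lle hl) b = F.kappa l (F.lle hl) c :=
      hf (DFunLike.congr_fun h ⟨l, hl⟩)
    have : F.kappa l (F.lle hl) (b⁻¹ * c) = 1 := by rw [map_mul, map_inv, e, inv_mul_cancel]
    exact congrArg Subtype.val this
  obtain ⟨hfin1, hle1⟩ := card_monoidHom_le (B ⧸ N) K
  obtain ⟨hfin2, hle2⟩ := card_monoidHom_le L K
  have hLX : Nat.card L ≤ Nat.card (B ⧸ N →* K) := Nat.card_le_card_of_injective _ hΦ
  have hXL : Nat.card (B ⧸ N) ≤ Nat.card (L →* K) :=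
    Nat.card_le_card_of_injective (fun q : B ⧸ N => Ψ q.out) fun q q' h => by
      simpa using hΨ _ _ h
  have hbij : Function.Bijective Φ :=
    (Nat.bijective_iff_injective_and_card Φ).2 ⟨hΦ, by omega⟩
  have hzB : z ∈ B := (mem_cent.1 hz).1
  obtain ⟨l, hl⟩ := hbij.2 (QuotientGroup.lift N (f.comp (F.kappa z hzB)) (hzero z hzB hc))
  have hb : ∀ b ∈ B, ⁅(l : G)⁻¹ * z, b⁆ = 1 := fun b hbB => by
    have e : ⁅(l : G), b⁆ = ⁅z, b⁆ :=
      congrArg Subtype.val (hf (DFunLike.congr_fun hl (QuotientGroup.mk' N ⟨b, hbB⟩)))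
    have h3 := F.comm_mul_left (F.lle l.2) (mul_mem (F.lle (L.inv_mem l.2)) hzB) hbB
    rw [mul_inv_cancel_left, e] at h3
    exact mul_eq_left.1 h3.symm
  have hT := F.centre _ (mul_mem (F.lle (L.inv_mem l.2)) hzB) fun b hb' =>
    commutatorElement_eq_one_iff_mul_comm.1 (hb b hb')
  have := mul_mem (Subgroup.mem_sup_left (T := T) l.2) (Subgroup.mem_sup_right (S := L) hT)
  rwa [mul_inv_cancel_left] at this

theorem sq_mem_sup (F : Frame T B L ζ) (f : T →* K) (hf : Function.Injective f)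
    {x : G} (hx : x ∈ cent B L) : x ^ 2 ∈ L ⊔ T := by
  classical
  obtain ⟨R, hR, hRx⟩ := F.expo
  have hR0 : 0 < R := Nat.pos_of_ne_zero hR.ne_zero
  have hxB := (mem_cent.1 hx).1
  have hxR : x ^ R ∈ L ⊔ T := Subgroup.mem_sup_right (hRx x hxB)
  have hex : ∃ n, 0 < n ∧ x ^ n ∈ L ⊔ T := ⟨R, hR0, hxR⟩
  obtain ⟨hn0, hn⟩ := Nat.find_spec hex
  set n := Nat.find hex with hndef
  have hnR : n ∣ R := by
    by_contra hd
    have hpos : 0 < R % n := Nat.pos_of_ne_zero fun h => hd (Nat.dvd_of_mod_eq_zero h)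
    have : x ^ (R % n) ∈ L ⊔ T := by
      rw [← Nat.mod_add_div R n, pow_add, pow_mul] at hxR
      exact ((L ⊔ T).mul_mem_cancel_right (pow_mem hn _)).1 hxR
    exact Nat.find_min hex (Nat.mod_lt R hn0) ⟨hpos, this⟩
  have hdvd : n ∣ 2 := by
    have hsf : Squarefree n := hR.squarefree_of_dvd hnR
    rw [← Nat.prod_primeFactors_of_squarefree hsf]
    refine (Finset.prod_dvd_prod_of_subset _ ({2} : Finset ℕ) id fun q hq => ?_).trans (by simp)
    rw [Finset.mem_singleton]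
    by_contra hq2
    have hqp := Nat.prime_of_mem_primeFactors hq
    have hqn := Nat.dvd_of_mem_primeFactors hq
    have hqodd : Odd q := hqp.odd_of_ne_two hq2
    let z := x ^ (n / q)
    have hz : z ∈ cent B L := pow_mem hx _
    have hzB : z ∈ B := (mem_cent.1 hz).1
    have hzq : z ^ q ∈ L ⊔ T := by rw [← pow_mul, Nat.div_mul_cancel hqn]; exact hn
    have hzn : z ∉ L ⊔ T := fun h => Nat.find_min hex
      (Nat.div_lt_self hn0 hqp.one_lt) ⟨Nat.div_pos (Nat.le_of_dvd hn0 hqn) hqp.pos, h⟩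
    obtain ⟨l, hl, a, ha⟩ := F.exists_zpow_of_sup hzq
    have hqa : ¬ (q : ℤ) ∣ a := fun hd => hzn (F.mem_sup_of_dvd hz hqp hl hd ha.symm)
    obtain ⟨r, hr⟩ : q ∣ R := hqn.trans hnR
    have hqr : Nat.Coprime q r := Nat.coprime_of_squarefree_mul (hr ▸ hR)
    refine hzn (F.mem_sup_of_central f hf hz fun w hw => ?_)
    have hwB := (mem_cent.1 hw).1
    have hcq : ∀ u ∈ cent B L, ⁅z, u⁆ ^ q = 1 := fun u hu => by
      rw [← F.comm_pow_left hzB (mem_cent.1 hu).1]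
      exact F.comm_eq_one_of_sup hzq hu
    have hw' : ⁅z, w ^ r⁆ = 1 := by
      have hu : w ^ r ∈ cent B L := pow_mem hw _
      have huq : (w ^ r) ^ q ∈ L ⊔ T := by
        rw [← pow_mul, mul_comm, ← hr]; exact Subgroup.mem_sup_right (hRx w hwB)
      obtain ⟨l', hl', b, hb⟩ := F.exists_zpow_of_sup huq
      obtain ⟨u, v, huv⟩ := (Nat.prime_iff_prime_int.1 hqp).coprime_iff_not_dvd.2 hqa
      -- `b - (b * v) * a` is divisible by `q`
      let k : ℕ := ((b * v) % (q : ℤ)).toNat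
      have hk : (k : ℤ) = (b * v) % (q : ℤ) :=
        Int.toNat_of_nonneg (Int.emod_nonneg _ (by exact_mod_cast hqp.ne_zero))
      have hdiv : (q : ℤ) ∣ b - a * k := by
        rw [hk, Int.emod_def]
        exact ⟨b * u + a * (b * v / q), by linear_combination (-b) * huv⟩
      set y := w ^ r * (z ^ k)⁻¹ with hy
      have hyC : y ∈ cent B L := mul_mem hu (inv_mem (pow_mem hz _))
      have hc : ⁅(z ^ k)⁻¹, w ^ r⁆ ^ q.choose 2 = 1 := by
        have h1 : ⁅(z ^ k)⁻¹, w ^ r⁆ ^ q = 1 := by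
          rw [← F.comm_pow_left (inv_mem (pow_mem hzB _)) (pow_mem hwB _), inv_pow, ← pow_mul,
            mul_comm, pow_mul]
          exact F.comm_eq_one_of_sup (inv_mem (pow_mem hzq _)) hu
        obtain ⟨m, hm⟩ := hqodd
        rw [show q.choose 2 = q * m by
          rw [Nat.choose_two_right, show q - 1 = 2 * m by omega, ← mul_assoc, mul_comm q 2,
            mul_assoc, Nat.mul_div_cancel_left _ (by norm_num)], pow_mul, h1, one_pow]
      have hyq : y ^ q = l' * (l ^ k)⁻¹ * ζ ^ (b - a * k) := by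
        rw [hy, F.mul_pow_two_class (pow_mem hwB _) (inv_mem (pow_mem hzB _)), hc, mul_one, ← hb,
          inv_pow, ← pow_mul, mul_comm k q, pow_mul, ← ha,
          (show Commute l (ζ ^ a) from (F.central _ (zpow_mem F.zeta_mem a) l (F.lle hl)).symm).mul_pow,
          mul_inv_rev, ← zpow_natCast (ζ ^ a), ← zpow_mul, ← zpow_neg, ← mul_assoc,
          mul_assoc l' (ζ ^ b), ← zpow_add, mul_assoc,
          F.central _ (zpow_mem F.zeta_mem _) _ (F.lle (L.inv_mem (L.pow_mem hl k))), ← mul_assoc,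
          sub_eq_add_neg]
      have hysup := F.mem_sup_of_dvd hyC hqp (L.mul_mem hl' (L.inv_mem (L.pow_mem hl k))) hdiv hyq
      have h2 : w ^ r = y * z ^ k := by rw [hy, inv_mul_cancel_right]
      rw [h2, F.comm_mul_right hzB (mem_cent.1 hyC).1 (pow_mem hzB _),
        F.comm_pow_right hzB hzB, commutatorElement_self, one_pow, mul_one, ← commutatorElement_inv,
        F.comm_eq_one_of_sup hysup hz, inv_one]
    have h1 : ⁅z, w⁆ ^ r = 1 := by rw [← F.comm_pow_right hzB hwB]; exact hw'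
    have := pow_gcd_eq_one.2 ⟨hcq w hw, h1⟩
    rwa [hqr.gcd_eq_one, pow_one] at this
  obtain ⟨m, hm⟩ := hdvd
  rw [hm, pow_mul]
  exact pow_mem hn _

theorem comm_ne_one (F : Frame T B L ζ) (f : T →* K) (hf : Function.Injective f) {x y : G}
    (hx : x ∈ cent B L) (hy : y ∈ cent B L) (hxn : x ∉ L ⊔ T) (hyn : y ∉ L ⊔ T)
    (hxy : x * y ∉ L ⊔ T) : ⁅y, x⁆ ≠ 1 := by
  intro hc
  obtain ⟨l, hl, a, ha⟩ := F.exists_zpow_of_sup (F.sq_mem_sup f hf hx)
  obtain ⟨l', hl', b, hb⟩ := F.exists_zpow_of_sup (F.sq_mem_sup f hf hy)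
  have ha2 : ¬ (2 : ℤ) ∣ a := fun h => hxn (F.mem_sup_of_dvd hx Nat.prime_two hl h ha.symm)
  have hb2 : ¬ (2 : ℤ) ∣ b := fun h => hyn (F.mem_sup_of_dvd hy Nat.prime_two hl' h hb.symm)
  refine hxy (F.mem_sup_of_dvd (mul_mem hx hy) Nat.prime_two (L.mul_mem hl hl')
    (a := a + b) (by omega) ?_)
  rw [F.mul_pow_two_class (mem_cent.1 hx).1 (mem_cent.1 hy).1, hc, one_pow, mul_one, ← ha, ← hb,
    zpow_add, ← mul_assoc, mul_assoc l (ζ ^ a),
    F.central _ (zpow_mem F.zeta_mem a) l' (F.lle hl'), mul_assoc, mul_assoc, mul_assoc]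

/-- `cent B L` is generated over `L T` by two elements, one having a power generating `T` modulo `L`. -/
theorem exists_pair (F : Frame T B L ζ) (f : T →* K) (hf : Function.Injective f) :
    ∃ i ∈ cent B L, ∃ j ∈ cent B L, ∃ n : ℕ, (∃ l ∈ L, j ^ n = l * ζ) ∧
      cent B L ≤ L ⊔ T ⊔ Subgroup.zpowers i ⊔ Subgroup.zpowers j := by
  classical
  by_cases h : cent B L ≤ L ⊔ T
  · exact ⟨1, one_mem _, ζ, F.tle_cent F.zeta_mem, 1, ⟨1, one_mem _, by simp⟩,
      h.trans (le_sup_left.trans le_sup_left)⟩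
  obtain ⟨i, hi, hin⟩ := SetLike.not_le_iff_exists.1 h
  obtain ⟨y, hy, hiy⟩ : ∃ y ∈ cent B L, ⁅i, y⁆ ≠ 1 := by
    by_contra hc
    push Not at hc
    exact hin (F.mem_sup_of_central f hf hi hc)
  have hyn : y ∉ L ⊔ T := fun hy' => hiy (by
    rw [← commutatorElement_inv, F.comm_eq_one_of_sup hy' hi, inv_one])
  obtain ⟨l, hl, b, hb⟩ := F.exists_zpow_of_sup (F.sq_mem_sup f hf hy)
  have hb2 : ¬ (2 : ℤ) ∣ b := fun h' => hyn (F.mem_sup_of_dvd hy Nat.prime_two hl h' hb.symm)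
  obtain ⟨m, hm⟩ : ∃ m, b = 2 * m + 1 := ⟨b / 2, by omega⟩
  have hmT : ζ ^ (-m) ∈ T := zpow_mem F.zeta_mem _
  refine ⟨i, hi, y * ζ ^ (-m), mul_mem hy (F.tle_cent hmT), 2, ⟨l, hl, ?_⟩, fun w hw => ?_⟩
  · rw [(show Commute y (ζ ^ (-m)) from (F.central _ hmT y (mem_cent.1 hy).1).symm).mul_pow, ← hb,
      ← zpow_natCast, ← zpow_mul, mul_assoc, ← zpow_add, hm]
    norm_num
    ring_nf
    simp
  set S := L ⊔ T ⊔ Subgroup.zpowers i ⊔ Subgroup.zpowers (y * ζ ^ (-m))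
  have hsup : L ⊔ T ≤ S := le_sup_left.trans le_sup_left
  have hiS : i ∈ S := Subgroup.mem_sup_left (Subgroup.mem_sup_right (Subgroup.mem_zpowers i))
  have hyS : y ∈ S := by
    have := S.mul_mem (Subgroup.mem_sup_right (Subgroup.mem_zpowers (y * ζ ^ (-m))))
      (hsup (Subgroup.mem_sup_right (T.inv_mem hmT)))
    rwa [mul_inv_cancel_right] at this
  have key : ∀ u ∈ cent B L, ⁅i, u⁆ = 1 → u ∈ S := by
    intro u hu hc
    by_cases h1 : u ∈ L ⊔ T
    · exact hsup h1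
    by_cases h2 : u * i ∈ L ⊔ T
    · have := S.mul_mem (hsup h2) (S.inv_mem hiS)
      rwa [mul_inv_cancel_right] at this
    exact absurd hc (F.comm_ne_one f hf hu hi h1 hin h2)
  by_cases hc : ⁅i, w⁆ = 1
  · exact key w hw hc
  have hinv : ∀ u ∈ cent B L, ⁅i, u⁆ ^ 2 = 1 := fun u hu => by
    rw [← F.comm_pow_left (mem_cent.1 hi).1 (mem_cent.1 hu).1]
    exact F.comm_eq_one_of_sup (F.sq_mem_sup f hf hi) hu
  have hval : ∀ (u : G) (hu : u ∈ cent B L), ⁅i, u⁆ ≠ 1 →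
      f ⟨⁅i, u⁆, F.comm i (mem_cent.1 hi).1 u (mem_cent.1 hu).1⟩ = -1 := by
    intro u hu hne
    set t : T := ⟨⁅i, u⁆, F.comm i (mem_cent.1 hi).1 u (mem_cent.1 hu).1⟩
    have h2 : f t ^ 2 = 1 := by
      rw [← map_pow, show t ^ 2 = 1 from Subtype.ext (hinv u hu), map_one]
    refine (sq_eq_one_iff.1 h2).resolve_left fun h1 => hne ?_
    exact congrArg Subtype.val (hf (h1.trans (map_one f).symm))
  have heq : ⁅i, w⁆ = ⁅i, y⁆ :=
    congrArg Subtype.val (hf ((hval w hw hc).trans (hval y hy hiy).symm))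
  have h2 : ⁅i, w * y⁆ = 1 := by
    rw [F.comm_mul_right (mem_cent.1 hi).1 (mem_cent.1 hw).1 (mem_cent.1 hy).1, heq, ← pow_two]
    exact hinv y hy
  have h3 := S.mul_mem (key _ (mul_mem hw hy) h2) (S.inv_mem hyS)
  rwa [mul_inv_cancel_right] at h3

end Count

end Frame

end Cfsg.Agent.H10.BaseThree
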