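import Mathlib
import Cfsg.Agent.H10.BaseThree.Symplectic

/-!
# A regular triple when there are no blocks
-/

namespace Cfsg.Agent.H10.BaseThree

open scoped commutatorElement

theorem exists_prime_exponent {G V : Type*} [Group G] [AddCommGroup V] [DistribMulAction G V]
    [Finite V] (hirr : Irred G V) : ∃ p : ℕ, p.Prime ∧ ∀ v : V, p • v = 0 := by
  have := hirr.1
  obtain ⟨p, hp, hdvd⟩ := Nat.exists_prime_and_dvd (Finite.one_lt_card (α := V)).ne'
  haveI := Fact.mk hp
  obtain ⟨x, hx⟩ := exists_prime_addOrderOf_dvd_card' (G := V) p hdvd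
  let U : AddSubgroup V :=
    { carrier := {v | p • v = 0}
      add_mem' := fun {a b} (ha : p • a = 0) (hb : p • b = 0) => by
        change p • (a + b) = 0; rw [nsmul_add, ha, hb, add_zero]
      zero_mem' := nsmul_zero p
      neg_mem' := fun {a} (ha : p • a = 0) => by change p • (-a) = 0; rw [neg_nsmul, ha, neg_zero] }
  have hinv : ∀ g : G, ∀ v ∈ U, g • v ∈ U := fun g v (hv : p • v = 0) => by
    change p • (g • v) = 0; rw [← smul_nsmul', hv, smul_zero]
  refine ⟨p, hp, fun v => ?_⟩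
  rcases hirr.2 U hinv with h | h
  · have hxU : x ∈ U := by change p • x = 0; rw [← hx, addOrderOf_nsmul_eq_zero]
    rw [h, AddSubgroup.mem_bot] at hxU
    rw [hxU, addOrderOf_zero] at hx
    exact absurd hx.symm hp.ne_one
  · exact (h ▸ AddSubgroup.mem_top v : v ∈ U)

variable {G V : Type*} [Group G] [AddCommGroup V] [DistribMulAction G V] [Finite G]

theorem exists_abelian_normal_le [Group.IsSolvable G] {D : Subgroup G} [D.Normal] (hD : D ≠ ⊥) :
    ∃ A : Subgroup G, A ≤ D ∧ A.Normal ∧ A ≠ ⊥ ∧ ∀ a ∈ A, ∀ b ∈ A, a * b = b * a := by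
  classical
  obtain ⟨n, hn⟩ := (Group.isSolvable_def G).1 inferInstance
  have hex : ∃ n, D ⊓ derivedSeries G n = ⊥ := ⟨n, by rw [hn, inf_bot_eq]⟩
  obtain ⟨m, hm⟩ : ∃ m, Nat.find hex = m + 1 := by
    refine Nat.exists_eq_succ_of_ne_zero fun h0 => hD ?_
    have := Nat.find_spec hex
    rwa [h0, derivedSeries_zero, inf_top_eq] at this
  haveI : (derivedSeries G m).Normal := derivedSeries_normal G m
  refine ⟨D ⊓ derivedSeries G m, inf_le_left, inferInstance, fun h => ?_, fun a ha b hb => ?_⟩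
  · have := Nat.find_min' hex h
    omega
  · have h1 := Nat.find_spec hex
    rw [hm] at h1
    have hD' : ⁅a, b⁆ ∈ D := by
      rw [commutatorElement_def]
      exact mul_mem (mul_mem (mul_mem ha.1 hb.1) (inv_mem ha.1)) (inv_mem hb.1)
    have h2 : ⁅a, b⁆ ∈ D ⊓ derivedSeries G (m + 1) :=
      ⟨hD', by rw [derivedSeries_succ]; exact Subgroup.commutator_mem_commutator ha.2 hb.2⟩
    rw [h1, Subgroup.mem_bot] at h2
    exact commutatorElement_eq_one_iff_mul_comm.1 h2

/-- A maximal subgroup of class at most two over `T` inside the centraliser of `T`. -/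
theorem exists_layer [Group.IsSolvable G] {T : Subgroup G} [T.Normal]
    (hTc : ∀ a ∈ T, ∀ b ∈ T, a * b = b * a)
    (hmax : ∀ A : Subgroup G, A.Normal → T ≤ A → (∀ a ∈ A, ∀ b ∈ A, a * b = b * a) → A ≤ T) :
    ∃ B : Subgroup G, B.Normal ∧ T ≤ B ∧ (∀ t ∈ T, ∀ b ∈ B, t * b = b * t) ∧
      (∀ a ∈ B, ∀ b ∈ B, ⁅a, b⁆ ∈ T) ∧ (∀ z ∈ B, (∀ b ∈ B, z * b = b * z) → z ∈ T) ∧
      (∃ R : ℕ, Squarefree R ∧ ∀ x ∈ B, x ^ R ∈ T) ∧
      ∀ g : G, (∀ t ∈ T, g * t = t * g) → (∀ b ∈ B, g * b = b * g) → g ∈ T := by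
  classical
  let R := ∏ q ∈ (Nat.card G).primeFactors, q
  have hR : Squarefree R := by
    refine Finset.squarefree_prod_of_pairwise_isCoprime ?_
      (fun q hq => (Nat.prime_of_mem_primeFactors hq).squarefree)
    intro q hq r hr hne
    change IsRelPrime q r
    exact Nat.coprime_iff_isRelPrime.1
      ((Nat.coprime_primes (Nat.prime_of_mem_primeFactors hq) (Nat.prime_of_mem_primeFactors hr)).2 hne)
  let F : Set (Subgroup G) := {B | B.Normal ∧ T ≤ B ∧ B ≤ Subgroup.centralizer (T : Set G) ∧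
    (∀ a ∈ B, ∀ b ∈ B, ⁅a, b⁆ ∈ T) ∧ ∀ x ∈ B, x ^ R ∈ T}
  have hTF : T ∈ F := ⟨inferInstance, le_rfl,
    fun t ht => Subgroup.mem_centralizer_iff.2 fun s hs => hTc s hs t ht,
    fun a ha b hb => by rw [commutatorElement_def];
                        exact mul_mem (mul_mem (mul_mem ha hb) (inv_mem ha)) (inv_mem hb),
    fun x hx => pow_mem hx R⟩
  obtain ⟨B, -, ⟨⟨hBn, hTB, hBC, hBcomm, hBR⟩, hBmax⟩⟩ := (Set.toFinite F).exists_le_maximal hTF
  haveI := hBn
  have hcentral : ∀ t ∈ T, ∀ b ∈ B, t * b = b * t := fun t ht b hb =>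
    Subgroup.mem_centralizer_iff.1 (hBC hb) t ht
  have hcentre : ∀ z ∈ B, (∀ b ∈ B, z * b = b * z) → z ∈ T := by
    intro z hz hzc
    refine hmax (B ⊓ Subgroup.centralizer (B : Set G)) inferInstance
      (le_inf hTB fun t ht => Subgroup.mem_centralizer_iff.2 fun b hb => (hcentral t ht b hb).symm)
      (fun a ha b hb => (Subgroup.mem_centralizer_iff.1 ha.2 b hb.1).symm) ?_
    exact ⟨hz, Subgroup.mem_centralizer_iff.2 fun b hb => (hzc b hb).symm⟩
  refine ⟨B, hBn, hTB, hcentral, hBcomm, hcentre, ⟨R, hR, hBR⟩, fun g hg hgB => ?_⟩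
  by_contra hgT
  let D : Subgroup G := Subgroup.centralizer (T : Set G) ⊓ Subgroup.centralizer (B : Set G)
  have hgD : g ∈ D := ⟨Subgroup.mem_centralizer_iff.2 fun t ht => (hg t ht).symm,
    Subgroup.mem_centralizer_iff.2 fun b hb => (hgB b hb).symm⟩
  haveI : D.Normal := inferInstance
  haveI : (D.map (QuotientGroup.mk' T)).Normal :=
    Subgroup.Normal.map inferInstance _ (QuotientGroup.mk'_surjective T)
  have hDne : D.map (QuotientGroup.mk' T) ≠ ⊥ := fun h => hgT (by
    have : QuotientGroup.mk' T g ∈ D.map (QuotientGroup.mk' T) := ⟨g, hgD, rfl⟩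
    rw [h, Subgroup.mem_bot] at this
    exact (QuotientGroup.eq_one_iff g).1 this)
  obtain ⟨A, hAD, hAn, hA1, hAc⟩ := exists_abelian_normal_le hDne
  obtain ⟨a, ha, ha1⟩ : ∃ a ∈ A, a ≠ 1 := by
    by_contra hc
    push Not at hc
    exact hA1 ((Subgroup.eq_bot_iff_forall A).2 hc)
  obtain ⟨q, hq, hqd⟩ := Nat.exists_prime_and_dvd
    (fun h => ha1 (orderOf_eq_one_iff.1 h) : orderOf a ≠ 1)
  have hqR : q ∣ R := Finset.dvd_prod_of_mem (fun r => r) (Nat.mem_primeFactors.2 ⟨hq,
    hqd.trans ((orderOf_dvd_natCard a).trans (Subgroup.card_quotient_dvd_card T)),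
    Nat.card_pos.ne'⟩)
  let Aq : Subgroup (G ⧸ T) :=
    { carrier := {x | x ∈ A ∧ x ^ q = 1}
      mul_mem' := fun {x y} hx hy => ⟨mul_mem hx.1 hy.1, by
        rw [(show Commute x y from hAc x hx.1 y hy.1).mul_pow, hx.2, hy.2, one_mul]⟩
      one_mem' := ⟨one_mem A, one_pow q⟩
      inv_mem' := fun {x} hx => ⟨inv_mem hx.1, by rw [inv_pow, hx.2, inv_one]⟩ }
  haveI : Aq.Normal := ⟨fun x hx y => ⟨hAn.conj_mem x hx.1 y, by rw [conj_pow, hx.2]; group⟩⟩
  let N : Subgroup G := Aq.comap (QuotientGroup.mk' T)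
  haveI : N.Normal := Subgroup.Normal.comap inferInstance _
  have hTN : T ≤ N := fun t ht => by
    change QuotientGroup.mk' T t ∈ Aq
    rw [show QuotientGroup.mk' T t = 1 from (QuotientGroup.eq_one_iff t).2 ht]
    exact one_mem Aq
  have hND : N ≤ D := by
    intro n hn
    obtain ⟨d, hd, hdn⟩ := hAD hn.1
    have hTD : T ≤ D := le_inf
      (fun t ht => Subgroup.mem_centralizer_iff.2 fun s hs => hTc s hs t ht)
      (fun t ht => Subgroup.mem_centralizer_iff.2 fun b hb => (hcentral t ht b hb).symm)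
    have := D.mul_mem hd (hTD (QuotientGroup.eq.1 hdn))
    rwa [mul_inv_cancel_left] at this
  have hBN : ∀ b ∈ B, ∀ n ∈ N, Commute b n := fun b hb n hn =>
    Subgroup.mem_centralizer_iff.1 (hND hn).2 b hb
  have hNN : ∀ x ∈ N, ∀ y ∈ N, ⁅x, y⁆ ∈ T := fun x hx y hy => by
    rw [← QuotientGroup.eq_one_iff]
    exact (map_commutatorElement (QuotientGroup.mk' T) x y).trans
      (commutatorElement_eq_one_iff_mul_comm.2 (hAc _ hx.1 _ hy.1))
  have hNR : ∀ x ∈ N, x ^ R ∈ T := fun x hx => by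
    rw [← QuotientGroup.eq_one_iff]
    obtain ⟨r, hr⟩ := hqR
    have h2 : QuotientGroup.mk' T x ^ q = 1 := hx.2
    calc ((x ^ R : G) : G ⧸ T) = QuotientGroup.mk' T x ^ R := map_pow (QuotientGroup.mk' T) x R
      _ = 1 := by rw [hr, pow_mul, h2, one_pow]
  have hF : B ⊔ N ∈ F := by
    refine ⟨inferInstance, hTB.trans le_sup_left, sup_le hBC fun n hn => (hND hn).1, ?_, ?_⟩
    · intro x hx y hy
      obtain ⟨b, hb, n, hn, rfl⟩ := Subgroup.mem_sup_of_normal_right.1 hx
      obtain ⟨b', hb', n', hn', rfl⟩ := Subgroup.mem_sup_of_normal_right.1 hy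
      rw [← QuotientGroup.eq_one_iff]
      refine (map_commutatorElement (QuotientGroup.mk' T) _ _).trans
        (commutatorElement_eq_one_iff_mul_comm.2 ?_)
      have key : ∀ u v : G, ⁅u, v⁆ ∈ T →
          Commute (QuotientGroup.mk' T u) (QuotientGroup.mk' T v) := fun u v h =>
        commutatorElement_eq_one_iff_mul_comm.1 ((map_commutatorElement (QuotientGroup.mk' T) u v).symm.trans
          ((QuotientGroup.eq_one_iff _).2 h))
      rw [map_mul, map_mul]
      exact ((key b b' (hBcomm b hb b' hb')).mul_right ((hBN b hb n' hn').map _)).mul_left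
        (((hBN b' hb' n hn).map _).symm.mul_right (key n n' (hNN n hn n' hn')))
    · intro x hx
      obtain ⟨b, hb, n, hn, rfl⟩ := Subgroup.mem_sup_of_normal_right.1 hx
      rw [(hBN b hb n hn).mul_pow]
      exact mul_mem (hBR b hb) (hNR n hn)
  have hNB : N ≤ B := le_sup_right.trans (hBmax hF le_sup_left)
  have hNT : ∀ n ∈ N, n ∈ T := fun n hn => hcentre n (hNB hn) fun b hb => ((hBN b hb n hn).eq).symm
  have hsub : a ^ (orderOf a / q) ∈ Aq :=
    ⟨pow_mem ha _, by rw [← pow_mul, Nat.div_mul_cancel hqd, pow_orderOf_eq_one]⟩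
  obtain ⟨y, hy⟩ := QuotientGroup.mk'_surjective T (a ^ (orderOf a / q))
  have h1 : QuotientGroup.mk' T y = 1 :=
    (QuotientGroup.eq_one_iff y).2 (hNT y (by change QuotientGroup.mk' T y ∈ Aq; rw [hy]; exact hsub))
  rw [hy] at h1
  have h2 := orderOf_dvd_of_pow_eq_one h1
  have h3 : orderOf a / q < orderOf a := Nat.div_lt_self (orderOf_pos a) hq.one_lt
  exact absurd (Nat.le_of_dvd (Nat.div_pos (Nat.le_of_dvd (orderOf_pos a) hqd) hq.pos) h2) (by omega)

section Main

variable [Finite V] [Group.IsSolvable G]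

theorem regular_of_no_block (hirr : Irred G V) (hfaith : ∀ g : G, (∀ v : V, g • v = v) → g = 1)
    (hnb : ∀ e : AddMonoid.End V, ¬ IsBlock G e) : ∃ t : V × V × V, Regular G t := by
  classical
  have := hirr.1
  rcases subsingleton_or_nontrivial G with hsub | hnt
  · exact ⟨(0, 0, 0), fun g _ _ _ w => by rw [Subsingleton.elim g 1, one_smul]⟩
  -- maximal abelian normal subgroup
  obtain ⟨A0, -, hA0n, hA01, hA0c⟩ :=
    exists_abelian_normal_le (G := G) (D := ⊤) (fun h => top_ne_bot h)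
  let Fam : Set (Subgroup G) := {A | A.Normal ∧ ∀ a ∈ A, ∀ b ∈ A, a * b = b * a}
  obtain ⟨T, hA0T, ⟨⟨hTn, hTc⟩, hTmax⟩⟩ :=
    (Set.toFinite Fam).exists_le_maximal (show A0 ∈ Fam from ⟨hA0n, hA0c⟩)
  haveI := hTn
  have hT1 : T ≠ ⊥ := fun h => hA01 (le_bot_iff.1 (h ▸ hA0T))
  obtain ⟨p, hp, hpV⟩ := exists_prime_exponent hirr
  haveI := Fact.mk hp
  -- the scalars form a finite integral domain
  let K := scalars V T
  letI : CommRing K :=
    { (inferInstance : Ring K) with
      mul_comm := fun x y => Subtype.ext (scalars_comm hTc x.2 y.2) }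
  haveI : Nontrivial K := ⟨⟨0, 1, fun h => by
    obtain ⟨v, hv⟩ := exists_ne (0 : V)
    exact hv (DFunLike.congr_fun (congrArg Subtype.val h) v).symm⟩⟩
  haveI : NoZeroDivisors K := ⟨fun {x y} h => by
    by_contra hc
    push Not at hc
    refine hc.2 (Subtype.ext (AddMonoidHom.ext fun u => ?_))
    exact scalars_injective hirr hnb hTc x.2 (fun h0 => hc.1 (Subtype.ext h0))
      (DFunLike.congr_fun (congrArg Subtype.val h) u)⟩
  haveI : IsDomain K := NoZeroDivisors.to_isDomain K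
  haveI : CharP K p := by
    refine (CharP.charP_iff_prime_eq_zero hp).2 (Subtype.ext (AddMonoidHom.ext fun v => ?_))
    change ((p : K) : AddMonoid.End V) v = 0
    rw [show ((p : K) : AddMonoid.End V) = (p : AddMonoid.End V) from map_natCast K.subtype p,
      AddMonoid.End.natCast_apply, hpV]
  have hfix : ∀ t ∈ T, ∀ v : V, v ≠ 0 → t • v = v → t = 1 := by
    intro t ht v hv htv
    refine hfaith t fun u => ?_
    by_contra hu
    have hx0 : ((toScalar V T ⟨t, ht⟩ - 1 : K) : AddMonoid.End V) ≠ 0 := fun h => hu (by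
      have h' : t • u - u = 0 := DFunLike.congr_fun h u
      exact sub_eq_zero.1 h')
    refine hv (scalars_injective hirr hnb hTc (toScalar V T ⟨t, ht⟩ - 1 : K).2 hx0 ?_)
    change t • v - v = 0
    rw [htv, sub_self]
  let f : T →* K := toScalar V T
  have hf : Function.Injective f := (injective_iff_map_eq_one f).2 fun t ht => Subtype.ext <|
    hfaith t fun u => DFunLike.congr_fun (congrArg Subtype.val ht) u
  haveI : IsCyclic T := isCyclic_of_injective_ringHom f hf
  obtain ⟨ζ', hζ'⟩ := IsCyclic.exists_generator (α := T)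
  let ζ : G := ζ'
  have hTgen : T = Subgroup.zpowers ζ := by
    apply le_antisymm
    · intro t ht
      obtain ⟨k, hk⟩ := Subgroup.mem_zpowers_iff.1 (hζ' ⟨t, ht⟩)
      exact Subgroup.mem_zpowers_iff.2 ⟨k, congrArg Subtype.val hk⟩
    · exact Subgroup.zpowers_le.2 ζ'.2
  obtain ⟨B, hBn, hTB, hcentral, hBcomm, hcentre, hexpo, hCB⟩ := exists_layer hTc
    (fun A hA hTA hAc => hTmax ⟨hA, hAc⟩ hTA)
  -- the maximal abelian subgroup avoiding `T`
  let LF : Set (Subgroup G) := {L | L ≤ B ∧ (∀ a ∈ L, ∀ b ∈ L, a * b = b * a) ∧ L ⊓ T = ⊥}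
  obtain ⟨L, -, ⟨⟨hLB, hLc, hLT⟩, hLmax⟩⟩ := (Set.toFinite LF).exists_le_maximal
    (show (⊥ : Subgroup G) ∈ LF from ⟨bot_le,
      fun a ha b hb => by rw [Subgroup.mem_bot.1 ha, Subgroup.mem_bot.1 hb], bot_inf_eq T⟩)
  have F : Frame T B L ζ := ⟨hTn, hTB, hTgen, hcentral, hBcomm, hcentre, hexpo, hLB, hLc, hLT,
    fun L' h1 h2 h3 h4 => hLmax ⟨h2, h3, h4⟩ h1⟩
  haveI := F.cent_normal
  let N := (cent B L).subgroupOf B
  letI : CommGroup (B ⧸ N) :=
    { (inferInstance : Group (B ⧸ N)) with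
      mul_comm := fun x y => by
        induction x using QuotientGroup.induction_on with
        | _ a =>
          induction y using QuotientGroup.induction_on with
          | _ b =>
            refine commutatorElement_eq_one_iff_mul_comm.1
              ((map_commutatorElement (QuotientGroup.mk' N) a b).symm.trans
                ((QuotientGroup.eq_one_iff _).2 ?_))
            exact F.tle_cent (F.comm (a : G) a.2 (b : G) b.2) }
  letI := Fintype.ofFinite (B ⧸ N)
  letI := Fintype.ofFinite L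
  let rep : B ⧸ N → B := fun q => if q = 1 then 1 else q.out
  have hrep : ∀ q, (rep q : B ⧸ N) = q := fun q => by
    by_cases h : q = 1
    · simp [rep, h]
    · simp [rep, h]
  have hrep1 : rep 1 = 1 := if_pos rfl
  -- sums of nontrivial characters vanish
  have horth : ∀ {A : Type _} [Group A] [Fintype A] (h : A →* K), (∃ a, h a ≠ 1) → ∀ u : V,
      ∑ a, (h a : AddMonoid.End V) u = 0 := by
    intro A _ _ h hne u
    have h0 : (∑ a, h a) = 0 := sum_hom_units_eq_zero h (fun hh => by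
      obtain ⟨a, ha⟩ := hne
      exact ha (by rw [hh, MonoidHom.one_apply]))
    have h1 : (∑ a, (h a : AddMonoid.End V)) = 0 := by
      rw [← AddSubmonoidClass.coe_finsetSum, h0]; rfl
    have h2 := DFunLike.congr_fun h1 u
    exact (AddMonoidHom.finsetSum_apply (fun a => ((h a : AddMonoid.End V) : V →+ V)) _ u).symm.trans h2
  have hTp : ∀ t ∈ T, t ^ p = 1 → t = 1 := by
    intro t ht h
    have h1 : (f ⟨t, ht⟩) ^ p = 1 := by
      rw [← map_pow, show (⟨t, ht⟩ : T) ^ p = 1 from Subtype.ext h, map_one]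
    have h2 : (f ⟨t, ht⟩ - 1) ^ p = 0 := by rw [sub_pow_char, one_pow, h1, sub_self]
    have h3 : f ⟨t, ht⟩ = f 1 := by
      rw [map_one]; exact sub_eq_zero.1 ((pow_eq_zero_iff hp.ne_zero).1 h2)
    exact congrArg Subtype.val (hf h3)
  have hpX : ¬ p ∣ Nat.card (B ⧸ N) := fun hd => by
    obtain ⟨x, hx⟩ := exists_prime_orderOf_dvd_card' p hd
    have hxp : ((rep x ^ p : B) : B ⧸ N) = 1 := by
      rw [QuotientGroup.mk_pow, hrep, ← hx, pow_orderOf_eq_one]
    have hx1 : (rep x : B ⧸ N) = 1 := (QuotientGroup.eq_one_iff _).2 <| by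
      refine mem_cent.2 ⟨SetLike.coe_mem _, fun l hl => ?_⟩
      refine commutatorElement_eq_one_iff_mul_comm.1 (hTp _ (F.comm l (hLB hl) _ (rep x).2) ?_)
      refine (F.comm_pow_right (hLB hl) (rep x).2 p).symm.trans ?_
      have := (QuotientGroup.eq_one_iff _).1 hxp
      exact commutatorElement_eq_one_iff_mul_comm.2 ((mem_cent.1 this).2 l hl)
    rw [hrep] at hx1
    rw [hx1, orderOf_one] at hx
    exact hp.ne_one hx.symm
  have hpL : ¬ p ∣ Nat.card L := fun hd => by
    obtain ⟨x, hx⟩ := exists_prime_orderOf_dvd_card' p hd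
    have hxT : (x : G) ∈ L ⊓ T := ⟨x.2, hcentre _ (hLB x.2) fun b hb => by
      refine commutatorElement_eq_one_iff_mul_comm.1 (hTp _ (F.comm _ (hLB x.2) b hb) ?_)
      rw [← F.comm_pow_left (hLB x.2) hb, ← Subgroup.coe_pow, ← hx, pow_orderOf_eq_one]
      exact commutatorElement_one_left b⟩
    rw [hLT, Subgroup.mem_bot] at hxT
    rw [show x = 1 from Subtype.ext hxT, orderOf_one] at hx
    exact hp.ne_one hx.symm
  have hcancel : ∀ (n : ℕ), ¬ p ∣ n → ∀ u : V, n • u = 0 → u = 0 := fun n hn u hu => by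
    by_contra hne
    have h1 : addOrderOf u = p := addOrderOf_eq_prime (hpV u) hne
    exact hn (h1 ▸ addOrderOf_dvd_of_nsmul_eq_zero hu)
  -- a vector fixed by `L`
  obtain ⟨v, hv0, hvL⟩ : ∃ v : V, v ≠ 0 ∧ ∀ l ∈ L, l • v = v := by
    by_contra hc
    push Not at hc
    obtain ⟨u, hu⟩ := exists_ne (0 : V)
    refine hu (hcancel _ hpX u ?_)
    have hP : ∀ w : V, ∑ l : L, (l : G) • w = 0 := by
      intro w
      by_contra hne
      obtain ⟨l, hl, hlw⟩ := hc _ hne
      apply hlw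
      rw [Finset.smul_sum]
      exact Fintype.sum_equiv (Equiv.mulLeft ⟨l, hl⟩) _ _ fun k => (mul_smul _ _ _).symm
    have hexp : ∀ q : B ⧸ N, ∀ l : L, (rep q : G) • (l : G) • ((rep q : G)⁻¹ • u) =
        ⁅(rep q : G), (l : G)⁆ • (l : G) • u := fun q l => by
      simp only [smul_smul, commutatorElement_def]
      congr 1; group
    have h0 : ∑ l : L, ∑ q : B ⧸ N, ⁅(rep q : G), (l : G)⁆ • (l : G) • u = 0 := by
      rw [Finset.sum_comm]
      refine Finset.sum_eq_zero fun q _ => ?_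
      simp only [← hexp, ← Finset.smul_sum, hP, smul_zero]
    rw [Fintype.sum_eq_single 1] at h0
    · simpa [Nat.card_eq_fintype_card] using h0
    · intro l hl
      let ψ : B →* T :=
        { toFun := fun b => ⟨⁅(b : G), (l : G)⁆, F.comm (b : G) b.2 (l : G) (hLB l.2)⟩
          map_one' := Subtype.ext (commutatorElement_one_left (l : G))
          map_mul' := fun a b => Subtype.ext (F.comm_mul_left a.2 b.2 (hLB l.2)) }
      have hker : N ≤ (f.comp ψ).ker := fun b hb => by
        rw [MonoidHom.mem_ker, MonoidHom.comp_apply, show ψ b = 1 from Subtype.ext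
          (commutatorElement_eq_one_iff_mul_comm.2 ((mem_cent.1 hb).2 l l.2).symm), map_one]
      have hne : ∃ q, QuotientGroup.lift N (f.comp ψ) hker q ≠ 1 := by
        by_contra hall
        push Not at hall
        refine hl (Subtype.ext (Subgroup.mem_bot.1 (hLT ▸ ⟨l.2, hcentre _ (hLB l.2) fun b hb => ?_⟩ :
          (l : G) ∈ (⊥ : Subgroup G))))
        have h1 : ψ ⟨b, hb⟩ = 1 := hf ((hall (QuotientGroup.mk' N ⟨b, hb⟩)).trans (map_one f).symm)
        exact (commutatorElement_eq_one_iff_mul_comm.1 (congrArg Subtype.val h1)).symm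
      have := horth (QuotientGroup.lift N (f.comp ψ) hker) hne ((l : G) • u)
      rw [← this]
      refine Finset.sum_congr rfl fun q _ => ?_
      conv_rhs => rw [← hrep q, QuotientGroup.lift_mk]
      rfl
  have hstab : ∀ b ∈ B, b • v = v → b ∈ L := by
    intro b hb hbv
    let S := B ⊓ MulAction.stabilizer G v
    refine hLmax (y := S) ⟨inf_le_left, ?_, ?_⟩ (fun l hl => ⟨hLB hl, hvL l hl⟩) ⟨hb, hbv⟩
    · intro a ha c hc
      refine commutatorElement_eq_one_iff_mul_comm.1 (hfix _ (F.comm a ha.1 c hc.1) v hv0 ?_)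
      have : ⁅a, c⁆ ∈ MulAction.stabilizer G v := by
        rw [commutatorElement_def]
        exact mul_mem (mul_mem (mul_mem ha.2 hc.2) (inv_mem ha.2)) (inv_mem hc.2)
      exact this
    · rw [eq_bot_iff]
      exact fun t ht => Subgroup.mem_bot.2 (hfix t ht.2 v hv0 ht.1.2)
  -- uniqueness of the components
  have huniq : ∀ u u' : B ⧸ N → V, (∀ q, ∀ l ∈ L, l • u q = u q) → (∀ q, ∀ l ∈ L, l • u' q = u' q) →
      ∑ q, (rep q : G) • u q = ∑ q, (rep q : G) • u' q → u = u' := by
    intro u u' hu hu' he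
    funext q₀
    have hd : ∑ q, (rep q : G) • (u q - u' q) = 0 := by
      simp only [smul_sub, Finset.sum_sub_distrib, he, sub_self]
    have key : ∀ q (l : L), (l : G) • (rep q : G) • (u q - u' q) =
        ⁅(l : G), (rep q : G)⁆ • (rep q : G) • (u q - u' q) := fun q l => by
      have hfixl : (l : G) • (u q - u' q) = u q - u' q := by
        rw [smul_sub, hu q l l.2, hu' q l l.2]
      calc (l : G) • (rep q : G) • (u q - u' q)
          = ⁅(l : G), (rep q : G)⁆ • (rep q : G) • (l : G) • (u q - u' q) := by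
            simp only [smul_smul, commutatorElement_def]; congr 1; group
        _ = _ := by rw [hfixl]
    have h0 : ∑ q, ∑ l : L, (⁅(l : G), (rep q₀ : G)⁆⁻¹ * ⁅(l : G), (rep q : G)⁆) •
        (rep q : G) • (u q - u' q) = 0 := by
      rw [Finset.sum_comm]
      refine Finset.sum_eq_zero fun l _ => ?_
      simp only [mul_smul, ← key, ← Finset.smul_sum, hd, smul_zero]
    rw [Fintype.sum_eq_single q₀] at h0
    · simp only [inv_mul_cancel, one_smul, Finset.sum_const, Finset.card_univ,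
        ← Nat.card_eq_fintype_card] at h0
      exact sub_eq_zero.1 ((smul_eq_zero_iff_eq _).1 (hcancel _ hpL _ h0))
    · intro q hq
      let h : L →* T :=
        { toFun := fun l => (F.kappa l (hLB l.2) (rep q₀))⁻¹ * F.kappa l (hLB l.2) (rep q)
          map_one' := Subtype.ext (by simp [Frame.kappa])
          map_mul' := fun l l' => by
            letI : CommGroup T :=
              { (inferInstance : Group T) with
                mul_comm := fun a b => Subtype.ext (hTc a a.2 b b.2) }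
            have e : ∀ b : B, F.kappa ((l * l' : L) : G) (hLB (l * l').2) b =
                F.kappa l (hLB l.2) b * F.kappa l' (hLB l'.2) b := fun b =>
              Subtype.ext (F.comm_mul_left (hLB l.2) (hLB l'.2) b.2)
            rw [e, e, mul_inv, mul_mul_mul_comm] }
      have hne : ∃ l, (f.comp h) l ≠ 1 := by
        by_contra hall
        push Not at hall
        refine hq ?_
        rw [← hrep q, ← hrep q₀, eq_comm, QuotientGroup.eq, Subgroup.mem_subgroupOf]
        refine mem_cent.2 ⟨SetLike.coe_mem _, fun l hl => commutatorElement_eq_one_iff_mul_comm.1 ?_⟩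
        have h1 : h ⟨l, hl⟩ = 1 := hf ((hall ⟨l, hl⟩).trans (map_one f).symm)
        have h2 : F.kappa l (hLB hl) ((rep q₀)⁻¹ * rep q) = 1 := by
          rw [map_mul, map_inv]; exact h1
        exact congrArg Subtype.val h2
      exact (horth (f.comp h) hne ((rep q : G) • (u q - u' q)))
  letI : Fintype K := Fintype.ofFinite K
  obtain ⟨i, hi, j, hj, n, ⟨l₀, hl₀, hjn⟩, hgenC⟩ :=
    @Frame.exists_pair G _ T B L ζ _ K (Fintype.fieldOfDomain K) F f hf
  obtain ⟨col, -, hcol0, hcol⟩ := exists_colouring (B ⧸ N)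
  let α : B ⧸ N → V := fun q => if q = 1 then j • v else if col q = 2 then 0 else v
  let β : B ⧸ N → V := fun q => if q = 1 then i • v else
    if col q = 1 then 0 else if col q = 4 then ζ • v else v
  refine ⟨(v, ∑ q, (rep q : G) • α q, ∑ q, (rep q : G) • β q), fun g hg1 hg2 hg3 => ?_⟩
  have hg1' : g⁻¹ • v = v := by rw [inv_smul_eq_iff]; exact hg1.symm
  have hnormL : ∀ k : G, k • v = v → ∀ l ∈ L, k * l * k⁻¹ ∈ L := fun k hk l hl =>
    hstab _ (hBn.conj_mem l (hLB hl) k) (by
      rw [mul_smul, mul_smul, show k⁻¹ • v = v by rw [inv_smul_eq_iff]; exact hk.symm, hvL l hl, hk])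
  have hfixed : ∀ c ∈ cent B L, ∀ l ∈ L, l • c • v = c • v := fun c hc l hl => by
    rw [smul_smul, (mem_cent.1 hc).2 l hl, mul_smul, hvL l hl]
  have hgfix : ∀ w : V, (∀ l ∈ L, l • w = w) → ∀ l ∈ L, l • g • w = g • w := fun w hw l hl => by
    have h := hw _ (hnormL g⁻¹ hg1' l hl)
    rw [inv_inv, mul_smul, mul_smul, inv_smul_eq_iff] at h
    exact h
  have hαL : ∀ q, ∀ l ∈ L, l • α q = α q := fun q l hl => by
    simp only [α]; split_ifs
    · exact hfixed j hj l hl
    · exact smul_zero l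
    · exact hvL l hl
  have hζC : ζ ∈ cent B L := F.tle_cent F.zeta_mem
  have hβL : ∀ q, ∀ l ∈ L, l • β q = β q := fun q l hl => by
    simp only [β]; split_ifs
    · exact hfixed i hi l hl
    · exact smul_zero l
    · exact hfixed ζ hζC l hl
    · exact hvL l hl
  have hcentconj : ∀ k : G, k • v = v → ∀ c ∈ cent B L, k * c * k⁻¹ ∈ cent B L := by
    intro k hk c hc
    refine mem_cent.2 ⟨hBn.conj_mem c (mem_cent.1 hc).1 k, fun l hl => ?_⟩
    have h := (mem_cent.1 hc).2 _ (hnormL k⁻¹ (by rw [inv_smul_eq_iff]; exact hk.symm) l hl)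
    rw [inv_inv] at h
    calc l * (k * c * k⁻¹) = k * (k⁻¹ * l * k * c) * k⁻¹ := by group
      _ = k * (c * (k⁻¹ * l * k)) * k⁻¹ := by rw [h]
      _ = k * c * k⁻¹ * l := by group
  let φ : B ⧸ N →* B ⧸ N := QuotientGroup.map N N ((MulAut.conjNormal g : B ≃* B) : B →* B)
    (fun c hc => by
      rw [Subgroup.mem_comap, Subgroup.mem_subgroupOf]
      exact hcentconj g hg1 _ hc)
  have hφmk : ∀ b : B, φ (b : B ⧸ N) = ((MulAut.conjNormal g b : B) : B ⧸ N) := fun b => rfl
  have hφinj : Function.Injective φ := by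
    rw [injective_iff_map_eq_one]
    intro x hx
    induction x using QuotientGroup.induction_on with
    | _ b =>
      rw [hφmk, QuotientGroup.eq_one_iff, Subgroup.mem_subgroupOf, MulAut.conjNormal_apply] at hx
      rw [QuotientGroup.eq_one_iff, Subgroup.mem_subgroupOf]
      have := hcentconj g⁻¹ hg1' _ hx
      group at this
      exact this
  let φe : (B ⧸ N) ≃ (B ⧸ N) := Equiv.ofBijective φ (Finite.injective_iff_bijective.1 hφinj)
  let c : B ⧸ N → G := fun q => (rep (φ q) : G)⁻¹ * (g * (rep q : G) * g⁻¹)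
  have hc : ∀ q, c q ∈ cent B L := fun q => by
    have h : ((MulAut.conjNormal g (rep q) : B) : B ⧸ N) = φ q := by rw [← hφmk, hrep]
    have h2 := QuotientGroup.eq.1 ((hrep (φ q)).trans h.symm)
    rw [Subgroup.mem_subgroupOf] at h2
    simpa [c, MulAut.conjNormal_apply] using h2
  have hmove : ∀ (γ : B ⧸ N → V), (∀ q, ∀ l ∈ L, l • γ q = γ q) →
      g • (∑ q, (rep q : G) • γ q) = ∑ q, (rep q : G) • γ q → ∀ q, c q • g • γ q = γ (φ q) := by
    intro γ hγ hfix' q
    have hu : ∀ q', ∀ l ∈ L, l • (c (φe.symm q') • g • γ (φe.symm q')) =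
        c (φe.symm q') • g • γ (φe.symm q') := fun q' l hl => by
      rw [smul_smul, (mem_cent.1 (hc _)).2 l hl, mul_smul, hgfix _ (hγ _) l hl]
    have hsum : ∑ q', (rep q' : G) • (c (φe.symm q') • g • γ (φe.symm q')) =
        ∑ q, (rep q : G) • γ q := by
      rw [← Fintype.sum_equiv φe (fun x => g • (rep x : G) • γ x) _ fun x => ?_, ← Finset.smul_sum,
        hfix']
      rw [Equiv.symm_apply_apply]
      change g • (rep x : G) • γ x = (rep (φ x) : G) • c x • g • γ x
      simp only [c, smul_smul]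
      congr 1; group
    have := congrFun (huniq _ _ hu hγ hsum) (φe q)
    rw [Equiv.symm_apply_apply] at this
    exact this
  have hα := hmove α hαL hg2
  have hβ := hmove β hβL hg3
  have hc1 : c 1 = 1 := by simp [c, hrep1]
  have hjv : g • j • v = j • v := by
    have := hα 1
    rw [hc1, one_smul, map_one] at this
    simpa [α] using this
  have hiv : g • i • v = i • v := by
    have := hβ 1
    rw [hc1, one_smul, map_one] at this
    simpa [β] using this
  let S : Subgroup G :=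
    { carrier := {x | x ∈ cent B L ∧ x⁻¹ * (g * x * g⁻¹) ∈ L}
      mul_mem' := fun {a b} ha hb => ⟨mul_mem ha.1 hb.1, by
        have h := (mem_cent.1 hb.1).2 _ ha.2
        have : (a * b)⁻¹ * (g * (a * b) * g⁻¹) =
            a⁻¹ * (g * a * g⁻¹) * (b⁻¹ * (g * b * g⁻¹)) := by
          calc (a * b)⁻¹ * (g * (a * b) * g⁻¹)
              = b⁻¹ * (a⁻¹ * (g * a * g⁻¹) * b) * (b⁻¹ * (g * b * g⁻¹)) := by group
            _ = _ := by rw [h]; group
        rw [this]; exact L.mul_mem ha.2 hb.2⟩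
      one_mem' := ⟨one_mem _, by group; exact L.one_mem⟩
      inv_mem' := fun {a} ha => ⟨inv_mem ha.1, by
        have h := (mem_cent.1 ha.1).2 _ (L.inv_mem ha.2)
        have : a⁻¹⁻¹ * (g * a⁻¹ * g⁻¹) = (a⁻¹ * (g * a * g⁻¹))⁻¹ := by
          calc a⁻¹⁻¹ * (g * a⁻¹ * g⁻¹) = a * (a⁻¹ * (g * a * g⁻¹))⁻¹ * a⁻¹ := by group
            _ = _ := by rw [← h]; group
        rw [this]; exact L.inv_mem ha.2⟩ }
  have hmemS : ∀ x ∈ cent B L, g • x • v = x • v → x⁻¹ * (g * x * g⁻¹) ∈ L := fun x hx hxv => by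
    refine hstab _ (mul_mem (inv_mem (mem_cent.1 hx).1) (hBn.conj_mem x (mem_cent.1 hx).1 g)) ?_
    rw [mul_smul, inv_smul_eq_iff, mul_smul, mul_smul, hg1', hxv]
  have hjS : j ∈ S := ⟨hj, hmemS j hj hjv⟩
  have hζeq : g * ζ * g⁻¹ = ζ := by
    have h1 : j ^ n ∈ S := pow_mem hjS n
    have h2 : l₀ ∈ S := ⟨F.le_cent hl₀, L.mul_mem (L.inv_mem hl₀) (hnormL g hg1 l₀ hl₀)⟩
    have h3 : ζ ∈ S := by
      have := S.mul_mem (S.inv_mem h2) h1
      rwa [hjn, inv_mul_cancel_left] at this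
    have h4 : ζ⁻¹ * (g * ζ * g⁻¹) ∈ L ⊓ T :=
      ⟨h3.2, T.mul_mem (T.inv_mem F.zeta_mem) (hTn.conj_mem ζ F.zeta_mem g)⟩
    rw [hLT, Subgroup.mem_bot] at h4
    exact (inv_mul_eq_one.1 h4).symm
  have hgT : ∀ t ∈ T, g * t = t * g := fun t ht => by
    rw [hTgen] at ht
    obtain ⟨k, rfl⟩ := Subgroup.mem_zpowers_iff.1 ht
    exact ((show Commute g ζ from mul_inv_eq_iff_eq_mul.1 hζeq).zpow_right k)
  have hgζv : g • ζ • v = ζ • v := by
    rw [← mul_smul, hgT ζ F.zeta_mem, mul_smul, hg1]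
  have hζv : ζ • v ≠ v := fun h => hT1 <| by
    have h1 := hfix ζ F.zeta_mem v hv0 h
    rw [hTgen, h1, Subgroup.zpowers_one_eq_bot]
  have hζv0 : ζ • v ≠ 0 := fun h => hv0 ((smul_eq_zero_iff_eq ζ).1 h)
  -- colours are preserved
  have hcolφ : ∀ q, col (φ q) = col q ∧ c q • v = v := by
    intro q
    by_cases hq : q = 1
    · subst hq
      rw [map_one, hc1, one_smul]
      exact ⟨rfl, rfl⟩
    have hφq : φ q ≠ 1 := fun h => hq (hφinj (h.trans (map_one φ).symm))
    have hA : c q • g • α q = α (φ q) := hα q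
    have hB : c q • g • β q = β (φ q) := hβ q
    have hne0 : c q • v ≠ 0 := fun h => hv0 ((smul_eq_zero_iff_eq (c q)).1 h)
    have hcases : ∀ a : Fin 5, a ≠ 0 → a = 1 ∨ a = 2 ∨ a = 3 ∨ a = 4 := by decide
    have hne0ζ : c q • ζ • v ≠ 0 := fun h => hζv0 ((smul_eq_zero_iff_eq (c q)).1 h)
    have hcζ : c q • ζ • v = ζ • c q • v := by
      rw [smul_smul, smul_smul, F.central ζ F.zeta_mem _ (mem_cent.1 (hc q)).1]
    rcases hcases (col q) (fun h => hq (hcol0 _ h)) with h | h | h | h <;>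
      rcases hcases (col (φ q)) (fun h' => hφq (hcol0 _ h')) with h' | h' | h' | h' <;>
      simp [α, β, hq, hφq, h, h', hg1, hgζv, hne0, Ne.symm hne0, hne0ζ, Ne.symm hne0ζ, hv0, Ne.symm hv0] at hA hB <;>
      first
        | exact ⟨h'.trans h.symm, hA⟩
        | exact ⟨h'.trans h.symm, hB⟩
        | (rw [hcζ, hA] at hB; exact absurd hB hζv)
        | (rw [hA] at hB; exact absurd hB.symm hζv)
        | exact absurd hA.symm hv0
        | exact absurd hB.symm hζv0
  have hφid : ∀ q, φ q = q := hcol φ hφinj (fun q => (hcolφ q).1)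
  have hgenS : ∀ x ∈ cent B L, x ∈ S := fun x hx => by
    refine (sup_le (sup_le (sup_le ?_ ?_) ?_) ?_ : L ⊔ T ⊔ _ ⊔ _ ≤ S) (hgenC hx)
    · exact fun l hl => ⟨F.le_cent hl, L.mul_mem (L.inv_mem hl) (hnormL g hg1 l hl)⟩
    · exact fun t ht => ⟨F.tle_cent ht, by rw [hgT t ht]; group; exact L.one_mem⟩
    · exact Subgroup.zpowers_le.2 ⟨hi, hmemS i hi hiv⟩
    · exact Subgroup.zpowers_le.2 hjS
  have hBv : ∀ b ∈ B, g • b • v = b • v := by
    intro b hb
    set q : B ⧸ N := ((⟨b, hb⟩ : B) : B ⧸ N)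
    have hr : (rep q : G)⁻¹ * b ∈ cent B L := by
      have := QuotientGroup.eq.1 (hrep q : (rep q : B ⧸ N) = ((⟨b, hb⟩ : B) : B ⧸ N))
      rw [Subgroup.mem_subgroupOf] at this
      exact this
    set x := (rep q : G)⁻¹ * b with hx
    have hcv : c q • v = v := (hcolφ q).2
    have hcL : c q ∈ L := hstab _ (mem_cent.1 (hc q)).1 hcv
    have hl' := (hgenS x hr).2
    have h1 : g * b * g⁻¹ = (rep q : G) * c q * (x * (x⁻¹ * (g * x * g⁻¹))) := by
      simp only [c, hφid q, hx]; group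
    calc g • b • v = (g * b * g⁻¹) • v := by rw [mul_smul, mul_smul, hg1']
      _ = (rep q : G) • c q • x • v := by
        rw [h1, mul_smul, mul_smul x, hvL _ hl', mul_smul]
      _ = b • v := by
        rw [hfixed x hr _ hcL, hx, ← mul_smul, mul_inv_cancel_left]
  -- `g` centralises `B`
  have hgB : ∀ b ∈ B, g * b = b * g := by
    intro b hb
    have hd : ∀ b' ∈ B, (b⁻¹ * (g * b * g⁻¹)) • b' • v = b' • v := by
      intro b' hb'
      have e1 : g⁻¹ • b' • v = b' • v := by rw [inv_smul_eq_iff, hBv b' hb']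
      have e2 : g • b • b' • v = b • b' • v := by
        rw [← mul_smul b, hBv _ (mul_mem hb hb')]
      rw [mul_smul, inv_smul_eq_iff, mul_smul, mul_smul, e1, e2]
    set d := b⁻¹ * (g * b * g⁻¹)
    have hdB : d ∈ B := mul_mem (inv_mem hb) (hBn.conj_mem b hb g)
    have hdv : d • v = v := by simpa using hd 1 (one_mem B)
    have hdT : d ∈ T := hcentre d hdB fun y hy => by
      refine commutatorElement_eq_one_iff_mul_comm.1 (hfix _ (F.comm d hdB y hy) v hv0 ?_)
      rw [commutatorElement_def, mul_smul, mul_smul, mul_smul]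
      have e3 : d⁻¹ • y⁻¹ • v = y⁻¹ • v := by
        rw [inv_smul_eq_iff, hd _ (inv_mem hy)]
      rw [e3, smul_inv_smul, hdv]
    have hd1 : d = 1 := hfix d hdT v hv0 hdv
    have h4 : g * b * g⁻¹ = b := (inv_mul_eq_one.1 hd1).symm
    exact mul_inv_eq_iff_eq_mul.1 h4
  have hgT' : g ∈ T := hCB g hgT hgB
  intro w
  rw [hfix g hgT' v hv0 hg1, one_smul]

end Main

end Cfsg.Agent.H10.BaseThree
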