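import Mathlib
import Cfsg.Agent.H10.BaseThree.Blocks
import Cfsg.Agent.H10.BaseThree.Primitive

/-!
# A solvable group acting completely reducibly has three vectors with trivial common stabiliser
-/

namespace Cfsg.Agent.H10.BaseThree

universe u v

section Faithful

variable {G V : Type*} [Group G] [AddCommGroup V] [DistribMulAction G V]

variable (G V) in
/-- The image of the acting group in the units of the endomorphism ring. -/
def image : Subgroup (AddMonoid.End V)ˣ :=
  (DistribMulAction.toAddMonoidEnd G V).toHomUnits.range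

theorem toHomUnits_smul (g : G) (v : V) :
    ((DistribMulAction.toAddMonoidEnd G V).toHomUnits g) • v = g • v := rfl

end Faithful

/-- Irreducible faithful solvable groups have a regular triple, by induction on the size. -/
theorem regular_units : ∀ (n : ℕ) (V : Type v) [AddCommGroup V] [Finite V],
    Nat.card V = n → ∀ (H : Subgroup (AddMonoid.End V)ˣ) [Group.IsSolvable H],
      Irred H V → ∃ t : V × V × V, Regular H t := by
  intro n
  induction n using Nat.strong_induction_on with
  | _ n ih =>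
    intro V _ _ hn H _ hirr
    have hfaith : ∀ h : H, (∀ v : V, h • v = v) → h = 1 := fun h hh =>
      Subtype.ext (Units.ext (AddMonoidHom.ext fun v => hh v))
    haveI : Finite (AddMonoid.End V)ˣ :=
      Finite.of_injective _ (Units.val_injective (α := AddMonoid.End V))
    by_cases hb : ∃ e : AddMonoid.End V, IsBlock H e
    swap
    · push Not at hb
      exact regular_of_no_block hirr hfaith hb
    obtain ⟨e, he, hmax⟩ := exists_maximal_block hirr hb
    have hirrW : Irred (blockStab H e) (blockSpace e) := irred_blockSpace hirr he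
    have hlt : Nat.card (blockSpace e) < n := by
      rw [← hn]
      refine Finite.card_subtype_lt (p := fun v : V => e v = v) (x := ?_) ?_
      · exact (show ∃ v : V, e v ≠ v by
          by_contra hc
          push Not at hc
          exact he.ne_one (AddMonoidHom.ext hc)).choose
      · exact (show ∃ v : V, e v ≠ v by
          by_contra hc
          push Not at hc
          exact he.ne_one (AddMonoidHom.ext hc)).choose_spec
    let ρ := (DistribMulAction.toAddMonoidEnd (blockStab H e) (blockSpace e)).toHomUnits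
    haveI : Group.IsSolvable (image (blockStab H e) (blockSpace e)) :=
      Group.isSolvable_of_surjective ρ.rangeRestrict_surjective
    have hirr' : Irred (image (blockStab H e) (blockSpace e)) (blockSpace e) :=
      ⟨hirrW.1, fun U hU => hirrW.2 U fun g w hw => hU ⟨ρ g, ⟨g, rfl⟩⟩ w hw⟩
    obtain ⟨t, ht⟩ := ih _ hlt (blockSpace e) rfl (image (blockStab H e) (blockSpace e)) hirr'
    have ht' : Regular (blockStab H e) t := fun g h1 h2 h3 w =>
      ht ⟨ρ g, ⟨g, rfl⟩⟩ h1 h2 h3 w
    obtain ⟨p, hp, hpV⟩ := exists_prime_exponent hirrW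
    haveI := Fact.mk hp
    haveI := hirrW.1
    exact regular_of_block hirr he hmax (five_of_regular p hpV t ht')

/-- An irreducible action of a solvable group has a regular triple. -/
theorem exists_regular_irred {G : Type u} {V : Type v} [Group G] [AddCommGroup V] [Finite V]
    [DistribMulAction G V] [Group.IsSolvable G] (hirr : Irred G V) :
    ∃ t : V × V × V, Regular G t := by
  let ρ := (DistribMulAction.toAddMonoidEnd G V).toHomUnits
  haveI : Group.IsSolvable (image G V) := Group.isSolvable_of_surjective ρ.rangeRestrict_surjective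
  have hirr' : Irred (image G V) V := ⟨hirr.1, fun U hU => hirr.2 U fun g w hw => hU ⟨ρ g, ⟨g, rfl⟩⟩ w hw⟩
  obtain ⟨t, ht⟩ := regular_units _ V rfl (image G V) hirr'
  exact ⟨t, fun g h1 h2 h3 w => ht ⟨ρ g, ⟨g, rfl⟩⟩ h1 h2 h3 w⟩

/-- Completely reducible: every invariant subgroup inside a given one has an invariant complement. -/
theorem exists_triple_of_completelyReducible {G : Type u} {V : Type v} [Group G] [AddCommGroup V]
    [Finite V] [DistribMulAction G V] [Group.IsSolvable G]
    (hcr : ∀ U : AddSubgroup V, (∀ a : G, ∀ x ∈ U, a • x ∈ U) →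
      ∃ W : AddSubgroup V, (∀ a : G, ∀ w ∈ W, a • w ∈ W) ∧ U ⊓ W = ⊥ ∧ U ⊔ W = ⊤)
    (S : AddSubgroup V) (hS : ∀ a : G, ∀ x ∈ S, a • x ∈ S) :
    ∃ t : V × V × V, (t.1 ∈ S ∧ t.2.1 ∈ S ∧ t.2.2 ∈ S) ∧
      ∀ g : G, g • t.1 = t.1 → g • t.2.1 = t.2.1 → g • t.2.2 = t.2.2 → ∀ x ∈ S, g • x = x := by
  classical
  induction hn : Nat.card S using Nat.strong_induction_on generalizing S with
  | _ n ih =>
    by_cases hbot : S = ⊥
    · exact ⟨(0, 0, 0), ⟨S.zero_mem, S.zero_mem, S.zero_mem⟩, fun g _ _ _ x hx => by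
        rw [hbot, AddSubgroup.mem_bot] at hx
        rw [hx, smul_zero]⟩
    by_cases hirrS : ∀ U : AddSubgroup V, U ≤ S → (∀ a : G, ∀ x ∈ U, a • x ∈ U) → U = ⊥ ∨ U = S
    · letI inst : DistribMulAction G S :=
        { smul := fun g x => ⟨g • (x : V), hS g x x.2⟩
          one_smul := fun x => Subtype.ext (one_smul G (x : V))
          mul_smul := fun g h x => Subtype.ext (mul_smul g h (x : V))
          smul_zero := fun g => Subtype.ext (smul_zero g)
          smul_add := fun g a b => Subtype.ext (smul_add g (a : V) (b : V)) }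
      have hirr : Irred G S := by
        refine ⟨(AddSubgroup.nontrivial_iff_ne_bot S).2 hbot, fun U hU => ?_⟩
        rcases hirrS (U.map S.subtype) (fun x ⟨y, _, hy⟩ => hy ▸ y.2) (fun a x ⟨y, hy, hxy⟩ =>
          ⟨a • y, hU a y hy, by subst hxy; rfl⟩) with h | h
        · exact Or.inl ((AddSubgroup.map_eq_bot_iff_of_injective U S.subtype_injective).1 h)
        · refine Or.inr ((AddSubgroup.eq_top_iff' U).2 fun x => ?_)
          obtain ⟨y, hy, hyx⟩ : (x : V) ∈ U.map S.subtype := h.symm ▸ x.2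
          exact (Subtype.ext hyx : y = x) ▸ hy
      obtain ⟨t, ht⟩ := exists_regular_irred hirr
      refine ⟨((t.1 : V), (t.2.1 : V), (t.2.2 : V)), ⟨t.1.2, t.2.1.2, t.2.2.2⟩,
        fun g h1 h2 h3 x hx => ?_⟩
      exact congrArg Subtype.val (ht g (Subtype.ext h1) (Subtype.ext h2) (Subtype.ext h3) ⟨x, hx⟩)
    · push Not at hirrS
      obtain ⟨U, hUS, hUinv, hU0, hUne⟩ := hirrS
      obtain ⟨W', hWinv, hinf, hsup⟩ := hcr U hUinv
      let W := W' ⊓ S
      have hWS : W ≤ S := inf_le_right
      have hinvW : ∀ a : G, ∀ x ∈ W, a • x ∈ W := fun a x hx => ⟨hWinv a x hx.1, hS a x hx.2⟩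
      have hdecomp : ∀ x ∈ S, ∃ u ∈ U, ∃ w ∈ W, u + w = x := by
        intro x hx
        have hxT : x ∈ U ⊔ W' := by rw [hsup]; exact AddSubgroup.mem_top x
        obtain ⟨u, hu, w, hw, rfl⟩ := AddSubgroup.mem_sup.1 hxT
        refine ⟨u, hu, w, ⟨hw, ?_⟩, rfl⟩
        have := S.sub_mem hx (hUS hu)
        rwa [add_sub_cancel_left] at this
      have hWne : W ≠ S := fun h => hU0 ((AddSubgroup.eq_bot_iff_forall U).2 fun u hu => by
        have h1 : u ∈ W := h.symm ▸ hUS hu
        exact AddSubgroup.mem_bot.1 (hinf ▸ (⟨hu, h1.1⟩ : u ∈ U ⊓ W')))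
      have hcard : ∀ A : AddSubgroup V, A ≤ S → A ≠ S → Nat.card A < n := fun A hA hne => by
        rw [← hn]
        exact Set.ncard_lt_ncard (lt_of_le_of_ne hA hne : A < S) (Set.toFinite _)
      obtain ⟨t, ⟨t1, t2, t3⟩, ht⟩ := ih _ (hcard U hUS hUne) U hUinv rfl
      obtain ⟨s, ⟨s1, s2, s3⟩, hs⟩ := ih _ (hcard W hWS hWne) W hinvW rfl
      have hsplit : ∀ g : G, ∀ u ∈ U, ∀ w ∈ W, g • (u + w) = u + w → g • u = u ∧ g • w = w := by
        intro g u hu w hw he
        have hd : g • u - u = w - g • w := by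
          rw [smul_add] at he
          rw [sub_eq_sub_iff_add_eq_add, he, add_comm]
        have h0 : g • u - u ∈ U ⊓ W' :=
          ⟨U.sub_mem (hUinv g u hu) hu, hd ▸ W'.sub_mem hw.1 (hWinv g w hw.1)⟩
        rw [hinf, AddSubgroup.mem_bot] at h0
        exact ⟨sub_eq_zero.1 h0, (sub_eq_zero.1 (hd.symm.trans h0)).symm⟩
      refine ⟨(t.1 + s.1, t.2.1 + s.2.1, t.2.2 + s.2.2),
        ⟨S.add_mem (hUS t1) (hWS s1), S.add_mem (hUS t2) (hWS s2), S.add_mem (hUS t3) (hWS s3)⟩,
        fun g h1 h2 h3 x hx => ?_⟩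
      obtain ⟨a1, b1⟩ := hsplit g _ t1 _ s1 h1
      obtain ⟨a2, b2⟩ := hsplit g _ t2 _ s2 h2
      obtain ⟨a3, b3⟩ := hsplit g _ t3 _ s3 h3
      obtain ⟨u, hu, w, hw, rfl⟩ := hdecomp x hx
      rw [smul_add, ht g a1 a2 a3 u hu, hs g b1 b2 b3 w hw]

end Cfsg.Agent.H10.BaseThree
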